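import Cfsg.Agent.S0447

/-! The kernel of a stem extension of an alternating group has order at most two. -/

set_option autoImplicit false

namespace Cfsg.Agent.AltCover

open Equiv Cfsg.Agent.S0447
open scoped commutatorElement

universe u

variable {Γ : Type u} [Group Γ] [Finite Γ]

theorem card_ker_le_two_of_lifts {m : ℕ} (π : Γ →* alternatingGroup (Fin (m + 2)))
    (hπ : Function.Surjective π) (hc : π.ker ≤ Subgroup.center Γ) (hd : π.ker ≤ commutator Γ)
    (x : ℕ → Γ) (hx : ∀ i, i < m → ((π (x i) : alternatingGroup (Fin (m + 2))) : Perm (Fin (m + 2))) = cyc m i)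
    (h3 : ∀ i, i < m → x i ^ 3 = 1) {z : Γ} (hz : π z = 1) (hz2 : z * z = 1)
    (h2 : ∀ i, i < m → ∀ j, j < m → i ≠ j → (x i * x j) ^ 2 = z) : Nat.card π.ker ≤ 2 := by
  classical
  set D := Subgroup.closure (x '' {i | i < m}) with hD
  have himg : ∀ g : Γ, ∃ d ∈ D, π d = π g := by
    intro g
    have hle : alternatingGroup (Fin (m + 2)) ≤ (D.map π).map (alternatingGroup (Fin (m + 2))).subtype := by
      refine (cyc_gen m).trans ?_
      rw [Subgroup.closure_le]
      rintro _ ⟨i, hi, rfl⟩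
      exact ⟨π (x i), Subgroup.mem_map_of_mem _ (Subgroup.subset_closure ⟨i, hi, rfl⟩), hx i hi⟩
    obtain ⟨a, ⟨d, hdD, hda⟩, ha⟩ := hle (π g).2
    exact ⟨d, hdD, hda.trans (Subtype.ext ha)⟩
  have hcomm : commutator Γ ≤ D := by
    rw [_root_.commutator_def, Subgroup.commutator_le]
    intro g _ g' _
    obtain ⟨d, hdD, hdg⟩ := himg g
    obtain ⟨d', hdD', hdg'⟩ := himg g'
    have hk : d⁻¹ * g ∈ π.ker := by rw [MonoidHom.mem_ker, map_mul, map_inv, hdg, inv_mul_cancel]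
    have hk' : d'⁻¹ * g' ∈ π.ker := by rw [MonoidHom.mem_ker, map_mul, map_inv, hdg', inv_mul_cancel]
    have e : ⁅g, g'⁆ = ⁅d, d'⁆ := by
      have c := Subgroup.mem_center_iff.mp (hc hk)
      have c' := Subgroup.mem_center_iff.mp (hc hk')
      generalize hw : d⁻¹ * g = w at c
      generalize hw' : d'⁻¹ * g' = w' at c'
      rw [show g = d * w by rw [← hw, mul_inv_cancel_left], show g' = d' * w' by rw [← hw', mul_inv_cancel_left],
        commutatorElement_def, commutatorElement_def]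
      calc d * w * (d' * w') * (d * w)⁻¹ * (d' * w')⁻¹
          = d * (w * d') * w' * w⁻¹ * d⁻¹ * w'⁻¹ * d'⁻¹ := by group
        _ = d * d' * (w * w') * w⁻¹ * d⁻¹ * w'⁻¹ * d'⁻¹ := by rw [← c d']; group
        _ = d * d' * (w' * d⁻¹) * w'⁻¹ * d'⁻¹ := by rw [c' w]; group
        _ = _ := by rw [← c' d⁻¹]; group
    rw [e]
    exact D.mul_mem (D.mul_mem (D.mul_mem hdD hdD') (D.inv_mem hdD)) (D.inv_mem hdD')
  have htop : D = ⊤ := by
    rw [eq_top_iff]
    intro g _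
    obtain ⟨d, hdD, hdg⟩ := himg g
    have hk : d⁻¹ * g ∈ π.ker := by rw [MonoidHom.mem_ker, map_mul, map_inv, hdg, inv_mul_cancel]
    rw [show g = d * (d⁻¹ * g) by rw [mul_inv_cancel_left]]
    exact D.mul_mem hdD (hcomm (hd hk))
  haveI : (Subgroup.zpowers z).Normal := ⟨fun a ha g => by
    rw [Subgroup.mem_center_iff.mp (hc ((Subgroup.zpowers_le.mpr (show z ∈ π.ker from hz)) ha)) g,
      mul_inv_cancel_right]
    exact ha⟩
  have hcard := pres_card (fun i => QuotientGroup.mk' (Subgroup.zpowers z) (x i)) m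
    (fun i hi => by simp only [← map_pow]; rw [h3 i hi, map_one])
    (fun i hi j hj hij => by
      simp only [← map_mul, ← map_pow]
      exact (QuotientGroup.eq_one_iff _).mpr (h2 i hi j hj hij ▸ Subgroup.mem_zpowers z))
  rw [show (fun i => QuotientGroup.mk' (Subgroup.zpowers z) (x i)) =
      (QuotientGroup.mk' (Subgroup.zpowers z)) ∘ x from rfl, Set.image_comp, ← MonoidHom.map_closure, ← hD,
    htop, Subgroup.map_top_of_surjective _ (QuotientGroup.mk'_surjective _), Subgroup.card_top, ← card_alt m,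
    Nat.mul_le_mul_left_iff two_pos] at hcard
  have e1 := Subgroup.card_eq_card_quotient_mul_card_subgroup (Subgroup.zpowers z)
  have e2 := π.ker.card_mul_index
  rw [Subgroup.index_ker, MonoidHom.range_eq_top.mpr hπ, Subgroup.card_top] at e2
  have e3 : Nat.card (Subgroup.zpowers z) ≤ 2 := by
    rw [Nat.card_zpowers]
    exact Nat.le_of_dvd two_pos (orderOf_dvd_of_pow_eq_one (by rw [pow_two]; exact hz2))
  have hA : 0 < Nat.card (alternatingGroup (Fin (m + 2))) := Nat.card_pos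
  have h5 : Nat.card (Γ ⧸ Subgroup.zpowers z) * Nat.card (Subgroup.zpowers z) ≤
      Nat.card (alternatingGroup (Fin (m + 2))) * 2 := Nat.mul_le_mul hcard e3
  rw [← e1, ← e2, mul_comm] at h5
  exact Nat.le_of_mul_le_mul_left h5 hA

/-- The three-cycle on `0, 1, a`. -/
def tc {n : ℕ} (a : Fin (n + 2)) : Perm (Fin (n + 2)) := swap 0 a * swap 0 1

theorem conj_tc {n : ℕ} (h : Perm (Fin (n + 2))) (h0 : h 0 = 0) (h1 : h 1 = 1) (a : Fin (n + 2)) :
    h * tc a * h⁻¹ = tc (h a) := by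
  have e : ∀ p q, h * swap p q * h⁻¹ = swap (h p) (h q) := fun p q => (swap_apply_apply h p q).symm
  rw [tc, tc, show h * (swap 0 a * swap 0 1) * h⁻¹ = (h * swap 0 a * h⁻¹) * (h * swap 0 1 * h⁻¹) by group,
    e, e, h0, h1]

theorem conj_tc_swap {n : ℕ} (h : Perm (Fin (n + 2))) (h0 : h 0 = 1) (h1 : h 1 = 0) (a : Fin (n + 2))
    (ha0 : a ≠ 0) (ha1 : a ≠ 1) : h * tc a * h⁻¹ = (tc (h a))⁻¹ := by
  have e : ∀ p q, h * swap p q * h⁻¹ = swap (h p) (h q) := fun p q => (swap_apply_apply h p q).symm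
  have hb0 : h a ≠ 0 := fun e' => ha1 (h.injective (e'.trans h1.symm))
  have hb1 : h a ≠ 1 := fun e' => ha0 (h.injective (e'.trans h0.symm))
  rw [tc, tc, show h * (swap 0 a * swap 0 1) * h⁻¹ = (h * swap 0 a * h⁻¹) * (h * swap 0 1 * h⁻¹) by group,
    e, e, h0, h1, mul_inv_rev, swap_inv, swap_inv]
  generalize h a = b at hb0 hb1
  rw [swap_comm (1 : Fin (n + 2)) 0]
  have : swap (0 : Fin (n + 2)) 1 * swap 0 b * (swap 0 1)⁻¹ = swap 1 b := by
    rw [← swap_apply_apply, swap_apply_left, swap_apply_of_ne_of_ne hb0 hb1]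
  rw [← this, swap_inv, mul_assoc, swap_mul_self, mul_one]

/-- A permutation of the last points. -/
theorem commutes_of_fixes {n : ℕ} (hn : n = 3 ∨ 6 ≤ n) {B : Type u} [CommGroup B]
    (φ : alternatingGroup (Fin (n + 2)) → B)
    (hφ : ∀ g h : alternatingGroup (Fin (n + 2)), (∀ i : Fin (n + 2), (i : ℕ) < 3 → (g : Perm _) i = i) →
      (∀ i : Fin (n + 2), (i : ℕ) < 3 → (h : Perm _) i = i) → φ (g * h) = φ g * φ h)
    (g : alternatingGroup (Fin (n + 2))) (hg : ∀ i : Fin (n + 2), (i : ℕ) < 3 → (g : Perm _) i = i) :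
    φ g = 1 := by
  classical
  let p : Fin (n + 2) → Prop := fun i => 3 ≤ (i : ℕ)
  let ι : alternatingGroup (Subtype p) →* alternatingGroup (Fin (n + 2)) :=
    ((Perm.ofSubtype (p := p)).comp (alternatingGroup (Subtype p)).subtype).codRestrict _ fun q => by
      rw [Perm.mem_alternatingGroup]
      show Perm.sign (Perm.ofSubtype (q : Perm (Subtype p))) = 1
      rw [Perm.sign_ofSubtype]; exact Perm.mem_alternatingGroup.mp q.2
  have hι : ∀ q, ∀ i : Fin (n + 2), (i : ℕ) < 3 → ((ι q : alternatingGroup (Fin (n + 2))) : Perm _) i = i :=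
    fun q i hi => Perm.ofSubtype_apply_of_not_mem _ (by simp [p]; omega)
  let χ : alternatingGroup (Subtype p) →* B := MonoidHom.mk' (fun q => φ (ι q)) fun a b => by
    show φ (ι (a * b)) = φ (ι a) * φ (ι b)
    rw [map_mul, hφ _ _ (hι a) (hι b)]
  have hgp : ∀ i, p ((g : Perm (Fin (n + 2))) i) ↔ p i := by
    intro i
    constructor
    · intro h
      by_contra hc
      rw [hg i (by simp [p] at hc; omega)] at h
      exact hc h
    · intro h
      by_contra hc
      have := hg _ (by simp [p] at hc; omega)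
      exact hc (((g : Perm (Fin (n + 2))).injective this).symm ▸ h)
  have hgl : Perm.ofSubtype ((g : Perm (Fin (n + 2))).subtypePerm hgp) = (g : Perm (Fin (n + 2))) :=
    Perm.ofSubtype_subtypePerm hgp fun i hi => by
      show 3 ≤ (i : ℕ)
      by_contra hc
      exact hi (hg i (by omega))
  let q : alternatingGroup (Subtype p) := ⟨_, Perm.mem_alternatingGroup.mpr (by
    rw [← Perm.sign_ofSubtype, hgl]; exact Perm.mem_alternatingGroup.mp g.2)⟩
  have hq : ι q = g := Subtype.ext hgl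
  show φ g = 1
  rw [← hq]
  show χ q = 1
  have hcard : Fintype.card (Subtype p) = n - 1 := by
    rw [Fintype.card_of_bijective (f := fun i : Subtype p => (⟨(i.1 : ℕ) - 3, by
      have := i.2; simp only [p] at this; omega⟩ : Fin (n - 1))) ⟨fun a b h => by
        have h' := congrArg Fin.val h
        have := a.2; have := b.2
        simp only [p] at *
        exact Subtype.ext (Fin.ext (by omega)), fun i => ⟨⟨⟨(i : ℕ) + 3, by omega⟩, by simp [p]⟩,
          Fin.ext (by simp)⟩⟩, Fintype.card_fin]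
  rcases hn with rfl | hn
  · have h1 : Nat.card (alternatingGroup (Subtype p)) = 1 := by
      haveI : Nontrivial (Subtype p) := Fintype.one_lt_card_iff_nontrivial.mp (by rw [hcard]; norm_num)
      have h := two_mul_nat_card_alternatingGroup (α := Subtype p)
      rw [Nat.card_perm, Nat.card_eq_fintype_card (α := Subtype p), hcard] at h
      rw [show Nat.factorial (3 - 1) = 2 from rfl] at h
      omega
    haveI := (Nat.card_eq_one_iff_unique.mp h1).1
    rw [Subsingleton.elim q 1, map_one]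
  · haveI : IsSimpleGroup (alternatingGroup (Subtype p)) :=
      alternatingGroup.isSimpleGroup (by rw [Nat.card_eq_fintype_card, hcard]; omega)
    have hq' : q ∈ commutator (alternatingGroup (Subtype p)) := by
      rcases (inferInstance : (commutator (alternatingGroup (Subtype p))).Normal).eq_bot_or_eq_top with h | h
      · exfalso
        have hab : IsMulCommutative (alternatingGroup (Subtype p)) := by
          refine ⟨⟨fun a b => ?_⟩⟩
          have h' := Subgroup.commutator_mem_commutator (Subgroup.mem_top a) (Subgroup.mem_top b)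
          rw [← _root_.commutator_def, h, Subgroup.mem_bot] at h'
          exact commutatorElement_eq_one_iff_mul_comm.mp h'
        have := alternatingGroup.center_eq_bot (α := Subtype p)
          (by rw [Nat.card_eq_fintype_card, hcard]; omega)
        have htop : Subgroup.center (alternatingGroup (Subtype p)) = ⊤ :=
          eq_top_iff.mpr fun a _ => Subgroup.mem_center_iff.mpr fun b => hab.1.comm b a
        rw [htop] at this
        exact top_ne_bot this
      · rw [h]; exact Subgroup.mem_top _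
    exact Abelianization.commutator_subset_ker χ hq'

/-- The bound, if stabilisers of three points commute with lifts of their three-cycle. -/
theorem card_ker_le_two_of_stab {m : ℕ} (hm : 3 ≤ m) (π : Γ →* alternatingGroup (Fin (m + 2)))
    (hπ : Function.Surjective π) (hc : π.ker ≤ Subgroup.center Γ) (hd : π.ker ≤ commutator Γ)
    (hstab : ∀ g x : Γ, ((π x : alternatingGroup (Fin (m + 2))) : Perm (Fin (m + 2))) = tc ⟨2, by omega⟩ →
      (∀ i : Fin (m + 2), (i : ℕ) < 3 → ((π g : alternatingGroup (Fin (m + 2))) : Perm (Fin (m + 2))) i = i) →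
      g * x * g⁻¹ = x) :
    Nat.card π.ker ≤ 2 := by
  classical
  let ρ : Γ →* Perm (Fin (m + 2)) := (alternatingGroup (Fin (m + 2))).subtype.comp π
  have hker : ∀ {g h : Γ}, ρ g = ρ h → h⁻¹ * g ∈ π.ker := fun {g h} e => by
    rw [MonoidHom.mem_ker, map_mul, map_inv, inv_mul_eq_one]
    exact Subtype.ext e.symm
  have hcen : ∀ {g h : Γ}, ρ g = ρ h → ∀ w, g * w * g⁻¹ = h * w * h⁻¹ := fun {g h} e w => by
    have hw := Subgroup.mem_center_iff.mp (hc (hker e))
    calc g * w * g⁻¹ = h * ((h⁻¹ * g) * w) * (h⁻¹ * g)⁻¹ * h⁻¹ := by group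
      _ = h * (w * (h⁻¹ * g)) * (h⁻¹ * g)⁻¹ * h⁻¹ := by rw [hw w]
      _ = _ := by group
  have hsurj : ∀ σ : Perm (Fin (m + 2)), Perm.sign σ = 1 → ∃ g, ρ g = σ := fun σ hσ => by
    obtain ⟨g, hg⟩ := hπ ⟨σ, Perm.mem_alternatingGroup.mpr hσ⟩
    exact ⟨g, congrArg Subtype.val hg⟩
  set two : Fin (m + 2) := ⟨2, by omega⟩ with htwo
  set three : Fin (m + 2) := ⟨3, by omega⟩
  set four : Fin (m + 2) := ⟨4, by omega⟩
  set s : Perm (Fin (m + 2)) := swap 0 1 * swap three four with hs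
  have hs0 : s 0 = 1 := by simp [s, three, four, swap_apply_def, Fin.ext_iff]
  have hs1 : s 1 = 0 := by simp [s, three, four, swap_apply_def, Fin.ext_iff]
  have hs2 : s two = two := by simp [s, two, three, four, swap_apply_def, Fin.ext_iff]
  have hssgn : Perm.sign s = 1 := by
    rw [hs, map_mul, Perm.sign_swap (by simp [Fin.ext_iff]), Perm.sign_swap (by simp [three, four, Fin.ext_iff])]
    simp
  obtain ⟨σ, hσ⟩ := hsurj s hssgn
  have hsign : ∀ a : Fin (m + 2), a ≠ 0 → Perm.sign (tc a) = 1 := fun a ha => by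
    rw [tc, map_mul, Perm.sign_swap ha.symm, Perm.sign_swap (by simp [Fin.ext_iff])]
    simp
  have h2ne : two ≠ 0 ∧ two ≠ 1 := by simp [two, Fin.ext_iff]
  have htc3 : tc two * tc two * tc two = 1 := by
    have h := ((cyc_props m).1 0 (by omega)).1
    rw [cyc, dif_pos (by omega), pow_succ, pow_two] at h
    exact h
  obtain ⟨X, hX⟩ := hsurj (tc two) (hsign _ h2ne.1)
  obtain ⟨a, hak, hXa⟩ : ∃ a ∈ π.ker, σ * X * σ⁻¹ = X⁻¹ * a := by
    refine ⟨X * (σ * X * σ⁻¹), ?_, by group⟩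
    rw [MonoidHom.mem_ker]
    refine Subtype.ext ?_
    show ρ (X * (σ * X * σ⁻¹)) = 1
    rw [map_mul, map_mul, map_mul, map_inv, hσ, hX, conj_tc_swap s hs0 hs1 two h2ne.1 h2ne.2, hs2,
      mul_inv_cancel]
  have hac := fun g => Subgroup.mem_center_iff.mp (hc hak) g
  set X' := σ * X * σ⁻¹ * X⁻¹ with hX'def
  have hX' : σ * X' * σ⁻¹ = X'⁻¹ := by
    have e : X' = X⁻¹ * X⁻¹ * a := by rw [hX'def, hXa, mul_assoc, ← hac X⁻¹, mul_assoc]
    have hac' : σ * a * σ⁻¹ = a := by rw [hac σ, mul_inv_cancel_right]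
    calc σ * X' * σ⁻¹ = (σ * X * σ⁻¹)⁻¹ * (σ * X * σ⁻¹)⁻¹ * (σ * a * σ⁻¹) := by rw [e]; group
      _ = (X⁻¹ * a)⁻¹ * (X⁻¹ * a)⁻¹ * a := by rw [hXa, hac']
      _ = (a⁻¹ * X) * (a⁻¹ * X) * a := by group
      _ = (a⁻¹ * X) * (a⁻¹ * (X * a)) := by group
      _ = (a⁻¹ * X) * (a⁻¹ * (a * X)) := by rw [hac X]
      _ = a⁻¹ * (X * X) := by group
      _ = X'⁻¹ := by rw [e, mul_inv_rev, mul_inv_rev, inv_inv]
  have hX'ρ : ρ X' = tc two := by
    rw [hX'def, map_mul, map_mul, map_mul, map_inv, map_inv, hσ, hX,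
      conj_tc_swap s hs0 hs1 two h2ne.1 h2ne.2, hs2]
    rw [← mul_inv_rev, inv_eq_iff_mul_eq_one]
    exact htc3
  have hck : X' ^ 3 ∈ π.ker := by
    rw [MonoidHom.mem_ker]
    refine Subtype.ext ?_
    show ρ (X' ^ 3) = 1
    rw [map_pow, hX'ρ, pow_succ, pow_two]; exact htc3
  have hc2 : X' ^ 3 * X' ^ 3 = 1 := by
    have h1 : σ * X' ^ 3 * σ⁻¹ = X' ^ 3 := by
      rw [Subgroup.mem_center_iff.mp (hc hck) σ, mul_inv_cancel_right]
    rw [← conj_pow, hX', inv_pow] at h1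
    rw [← inv_eq_iff_mul_eq_one]; exact h1
  set x0 := X' ^ 4 with hx0
  have hx0ρ : ρ x0 = tc two := by
    rw [hx0, map_pow, hX'ρ, pow_succ, pow_succ, pow_two, htc3, one_mul]
  have hx03 : x0 ^ 3 = 1 := by
    rw [hx0, ← pow_mul, show 4 * 3 = (3 + 3) * 2 by norm_num, pow_mul, pow_add, hc2, one_pow]
  have hx0σ : σ * x0 * σ⁻¹ = x0⁻¹ := by rw [hx0, ← conj_pow, hX', inv_pow]
  -- independence of the conjugating element
  have hfix : ∀ g : Γ, (∀ i : Fin (m + 2), (i : ℕ) < 3 → ρ g i = i) → g * x0 * g⁻¹ = x0 :=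
    fun g hg => hstab g x0 hx0ρ hg
  -- the conjugating elements
  have hex : ∀ a : Fin (m + 2), a ≠ 0 → a ≠ 1 → ∃ g : Γ, ρ g 0 = 0 ∧ ρ g 1 = 1 ∧ ρ g two = a := by
    intro a ha0 ha1
    by_cases ha2 : a = two
    · exact ⟨1, by simp, by simp, by simp [ha2]⟩
    obtain ⟨b, hb0, hb1, hb2, hba⟩ : ∃ b : Fin (m + 2), b ≠ 0 ∧ b ≠ 1 ∧ b ≠ two ∧ b ≠ a := by
      by_cases h : a = three
      · exact ⟨four, by simp [four, Fin.ext_iff], by simp [four, Fin.ext_iff],
          by simp [four, two, Fin.ext_iff], by subst h; simp [four, three, Fin.ext_iff]⟩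
      · exact ⟨three, by simp [three, Fin.ext_iff], by simp [three, Fin.ext_iff],
          by simp [three, two, Fin.ext_iff], fun e => h e.symm⟩
    obtain ⟨g, hg⟩ := hsurj (swap two a * swap two b) (by
      rw [map_mul, Perm.sign_swap (Ne.symm ha2), Perm.sign_swap (Ne.symm hb2)]; simp)
    refine ⟨g⁻¹, ?_, ?_, ?_⟩ <;> rw [map_inv, hg, Perm.inv_eq_iff_eq, Perm.mul_apply]
    · rw [swap_apply_of_ne_of_ne h2ne.1.symm hb0.symm, swap_apply_of_ne_of_ne h2ne.1.symm ha0.symm]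
    · rw [swap_apply_of_ne_of_ne h2ne.2.symm hb1.symm, swap_apply_of_ne_of_ne h2ne.2.symm ha1.symm]
    · rw [swap_apply_of_ne_of_ne ha2 hba.symm, swap_apply_right]
  choose g hg0 hg1 hg2 using hex
  let x : Fin (m + 2) → Γ := fun a =>
    if h : a ≠ 0 ∧ a ≠ 1 then g a h.1 h.2 * x0 * (g a h.1 h.2)⁻¹ else 1
  have hwd : ∀ h : Γ, ρ h 0 = 0 → ρ h 1 = 1 → h * x0 * h⁻¹ = x (ρ h two) := by
    intro h h0 h1
    have ha0 : ρ h two ≠ 0 := fun e => h2ne.1 ((ρ h).injective (e.trans h0.symm))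
    have ha1 : ρ h two ≠ 1 := fun e => h2ne.2 ((ρ h).injective (e.trans h1.symm))
    simp only [x, dif_pos (show ρ h two ≠ 0 ∧ ρ h two ≠ 1 from ⟨ha0, ha1⟩)]
    set k := g (ρ h two) ha0 ha1 with hk
    have := hfix (k⁻¹ * h) fun i hi => by
      rw [map_mul, map_inv, Perm.mul_apply, Perm.inv_eq_iff_eq]
      rcases (show (i : ℕ) = 0 ∨ (i : ℕ) = 1 ∨ (i : ℕ) = 2 by omega) with e | e | e
      · obtain rfl : i = 0 := Fin.ext e
        rw [h0, hk, hg0]
      · obtain rfl : i = 1 := Fin.ext (by simpa using e)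
        rw [h1, hk, hg1]
      · obtain rfl : i = two := Fin.ext e
        rw [hk, hg2]
    calc h * x0 * h⁻¹ = k * (k⁻¹ * h * x0 * (k⁻¹ * h)⁻¹) * k⁻¹ := by group
      _ = _ := by rw [this]
  have hxρ : ∀ a, a ≠ 0 → a ≠ 1 → ρ (x a) = tc a := fun a ha0 ha1 => by
    simp only [x, dif_pos (show a ≠ 0 ∧ a ≠ 1 from ⟨ha0, ha1⟩), map_mul, map_inv, hx0ρ]
    rw [conj_tc _ (hg0 a ha0 ha1) (hg1 a ha0 ha1), hg2]
  have hx3 : ∀ a, x a ^ 3 = 1 := fun a => by
    simp only [x]; split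
    · rw [conj_pow, hx03, mul_one, mul_inv_cancel]
    · exact one_pow _
  have hK : ∀ (k : Γ) (a : Fin (m + 2)), a ≠ 0 → a ≠ 1 → ρ k 0 = 0 → ρ k 1 = 1 →
      k * x a * k⁻¹ = x (ρ k a) := by
    intro k a ha0 ha1 k0 k1
    have h := hwd (k * g a ha0 ha1) (by rw [map_mul, Perm.mul_apply, hg0, k0])
      (by rw [map_mul, Perm.mul_apply, hg1, k1])
    rw [map_mul, Perm.mul_apply, hg2] at h
    rw [← h]
    simp only [x, dif_pos (show a ≠ 0 ∧ a ≠ 1 from ⟨ha0, ha1⟩)]
    group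
  have hSx : ∀ a : Fin (m + 2), a ≠ 0 → a ≠ 1 → σ * x a * σ⁻¹ = (x (s a))⁻¹ := by
    intro a ha0 ha1
    have h := hwd (σ * g a ha0 ha1 * σ⁻¹)
      (by rw [map_mul, map_mul, map_inv, Perm.mul_apply, Perm.mul_apply, hσ,
        show s⁻¹ 0 = 1 from Perm.inv_eq_iff_eq.mpr hs1.symm, hg1, hs1])
      (by rw [map_mul, map_mul, map_inv, Perm.mul_apply, Perm.mul_apply, hσ,
        show s⁻¹ 1 = 0 from Perm.inv_eq_iff_eq.mpr hs0.symm, hg0, hs0])
    rw [map_mul, map_mul, map_inv, Perm.mul_apply, Perm.mul_apply, hσ,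
      show s⁻¹ two = two from Perm.inv_eq_iff_eq.mpr hs2.symm, hg2] at h
    rw [← h]
    simp only [x, dif_pos (show a ≠ 0 ∧ a ≠ 1 from ⟨ha0, ha1⟩)]
    calc σ * (g a ha0 ha1 * x0 * (g a ha0 ha1)⁻¹) * σ⁻¹
        = σ * g a ha0 ha1 * σ⁻¹ * (σ * x0 * σ⁻¹) * (σ * g a ha0 ha1 * σ⁻¹)⁻¹ := by group
      _ = _ := by rw [hx0σ]; group
  set z : Fin (m + 2) → Fin (m + 2) → Γ := fun a b => (x a * x b) ^ 2 with hzdef
  have hzk : ∀ a b : Fin (m + 2), a ≠ 0 → a ≠ 1 → b ≠ 0 → b ≠ 1 → a ≠ b → z a b ∈ π.ker := by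
    intro a b ha0 ha1 hb0 hb1 hab
    rw [MonoidHom.mem_ker]
    refine Subtype.ext ?_
    show ρ ((x a * x b) ^ 2) = 1
    have hva : 2 ≤ (a : ℕ) := by
      have h' := ha0; have h'' := ha1
      rw [Ne, Fin.ext_iff, Fin.val_zero] at h'
      rw [Ne, Fin.ext_iff, Fin.val_one] at h''
      omega
    have hvb : 2 ≤ (b : ℕ) := by
      have h' := hb0; have h'' := hb1
      rw [Ne, Fin.ext_iff, Fin.val_zero] at h'
      rw [Ne, Fin.ext_iff, Fin.val_one] at h''
      omega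
    have h := ((cyc_props m).2 ((a : ℕ) - 2) (by omega) ((b : ℕ) - 2) (by omega)
      (fun e => hab (Fin.ext (by omega)))).1
    rw [cyc, dif_pos (by omega), cyc, dif_pos (by omega)] at h
    rw [map_pow, map_mul, hxρ a ha0 ha1, hxρ b hb0 hb1, tc, tc]
    have ea : (⟨(a : ℕ) - 2 + 2, by omega⟩ : Fin (m + 2)) = a := Fin.ext (by show (a : ℕ) - 2 + 2 = a; omega)
    have eb : (⟨(b : ℕ) - 2 + 2, by omega⟩ : Fin (m + 2)) = b := Fin.ext (by show (b : ℕ) - 2 + 2 = b; omega)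
    rw [ea, eb] at h
    exact h
  have hsymm : ∀ a b : Fin (m + 2), a ≠ 0 → a ≠ 1 → b ≠ 0 → b ≠ 1 → a ≠ b → z b a = z a b := by
    intro a b ha0 ha1 hb0 hb1 hab
    have h := Subgroup.mem_center_iff.mp (hc (hzk a b ha0 ha1 hb0 hb1 hab)) (x a)⁻¹
    calc z b a = (x a)⁻¹ * z a b * x a := by simp only [z, pow_two]; group
      _ = _ := by rw [h, inv_mul_cancel_right]
  have hstep : ∀ a b c : Fin (m + 2), a ≠ 0 → a ≠ 1 → b ≠ 0 → b ≠ 1 → c ≠ 0 → c ≠ 1 → a ≠ b → a ≠ c →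
      z a b = z a c := by
    intro a b c ha0 ha1 hb0 hb1 hc0 hc1 hab hac'
    by_cases hbc : b = c
    · rw [hbc]
    obtain ⟨k, hk⟩ := hsurj (swap a b * swap b c) (by
      rw [map_mul, Perm.sign_swap hab, Perm.sign_swap hbc]; simp)
    have k0 : ρ k 0 = 0 := by
      rw [hk, Perm.mul_apply, swap_apply_of_ne_of_ne hb0.symm hc0.symm, swap_apply_of_ne_of_ne ha0.symm hb0.symm]
    have k1 : ρ k 1 = 1 := by
      rw [hk, Perm.mul_apply, swap_apply_of_ne_of_ne hb1.symm hc1.symm, swap_apply_of_ne_of_ne ha1.symm hb1.symm]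
    have ka : ρ k a = b := by rw [hk, Perm.mul_apply, swap_apply_of_ne_of_ne hab hac', swap_apply_left]
    have kb : ρ k b = c := by
      rw [hk, Perm.mul_apply, swap_apply_left, swap_apply_of_ne_of_ne hac'.symm (Ne.symm hbc)]
    have kc : ρ k c = a := by rw [hk, Perm.mul_apply, swap_apply_right, swap_apply_right]
    have hmove : ∀ p q : Fin (m + 2), p ≠ 0 → p ≠ 1 → q ≠ 0 → q ≠ 1 → p ≠ q →
        z p q = z (ρ k p) (ρ k q) := by
      intro p q hp0 hp1 hq0 hq1 hpq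
      have h := Subgroup.mem_center_iff.mp (hc (hzk p q hp0 hp1 hq0 hq1 hpq)) k
      calc z p q = k * z p q * k⁻¹ := by rw [h, mul_inv_cancel_right]
        _ = _ := by simp only [z]; rw [← hK k p hp0 hp1 k0 k1, ← hK k q hq0 hq1 k0 k1, conj_mul, conj_pow]
    rw [hmove a b ha0 ha1 hb0 hb1 hab, ka, kb, hmove b c hb0 hb1 hc0 hc1 hbc, kb, kc,
      hsymm a c ha0 ha1 hc0 hc1 hac']
  have h3ne : three ≠ 0 ∧ three ≠ 1 := by simp [three, Fin.ext_iff]
  have h23 : two ≠ three := by simp [two, three, Fin.ext_iff]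
  have hall : ∀ a b : Fin (m + 2), a ≠ 0 → a ≠ 1 → b ≠ 0 → b ≠ 1 → a ≠ b → z a b = z two three := by
    intro a b ha0 ha1 hb0 hb1 hab
    by_cases ha : a = two
    · subst ha; exact hstep two b three ha0 ha1 hb0 hb1 h3ne.1 h3ne.2 hab h23
    · rw [hstep a b two ha0 ha1 hb0 hb1 h2ne.1 h2ne.2 hab ha, hsymm two a h2ne.1 h2ne.2 ha0 ha1 (Ne.symm ha)]
      exact hstep two a three h2ne.1 h2ne.2 ha0 ha1 h3ne.1 h3ne.2 (Ne.symm ha) h23
  have hinv : z two three * z two three = 1 := by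
    have h := Subgroup.mem_center_iff.mp (hc (hzk two three h2ne.1 h2ne.2 h3ne.1 h3ne.2 h23)) σ
    have hb0 : s three ≠ 0 := fun e => h3ne.2 (s.injective (e.trans hs1.symm))
    have hb1 : s three ≠ 1 := fun e => h3ne.1 (s.injective (e.trans hs0.symm))
    have hne : s two ≠ s three := fun e => h23 (s.injective e)
    rw [← inv_eq_iff_mul_eq_one]
    symm
    calc z two three = σ * z two three * σ⁻¹ := by rw [h, mul_inv_cancel_right]
      _ = ((σ * x two * σ⁻¹) * (σ * x three * σ⁻¹)) ^ 2 := by rw [conj_mul, conj_pow]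
      _ = (z (s three) (s two))⁻¹ := by
          rw [hSx two h2ne.1 h2ne.2, hSx three h3ne.1 h3ne.2, ← mul_inv_rev, inv_pow]
      _ = (z two three)⁻¹ := by
          rw [hall (s three) (s two) hb0 hb1 (by rw [hs2]; exact h2ne.1) (by rw [hs2]; exact h2ne.2) hne.symm]
  have hne : ∀ i, ∀ h : i < m, (⟨i + 2, by omega⟩ : Fin (m + 2)) ≠ 0 ∧ (⟨i + 2, by omega⟩ : Fin (m + 2)) ≠ 1 :=
    fun i h => by simp [Fin.ext_iff]
  refine card_ker_le_two_of_lifts π hπ hc hd (fun i => if h : i < m then x ⟨i + 2, by omega⟩ else 1)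
    (fun i hi => ?_) (fun i hi => ?_) (MonoidHom.mem_ker.mp (hzk two three h2ne.1 h2ne.2 h3ne.1 h3ne.2 h23))
    hinv (fun i hi j hj hij => ?_)
  · simp only [dif_pos hi]
    show ρ (x ⟨i + 2, _⟩) = cyc m i
    rw [hxρ _ (hne i hi).1 (hne i hi).2, cyc, dif_pos hi, tc]
  · simp only [dif_pos hi]; exact hx3 _
  · simp only [dif_pos hi, dif_pos hj]
    exact hall _ _ (hne i hi).1 (hne i hi).2 (hne j hj).1 (hne j hj).2 (by simp [Fin.ext_iff, hij])

theorem four_facts : ∃ t u v : alternatingGroup (Fin 4), u * u = 1 ∧ v * v = 1 ∧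
    (∀ w, w * w = 1 → w = 1 ∨ w = u ∨ w = v ∨ w = u * v) ∧
    (∀ g, g * g = 1 ∨ (t⁻¹ * g) * (t⁻¹ * g) = 1 ∨ (t⁻¹ * t⁻¹ * g) * (t⁻¹ * t⁻¹ * g) = 1) ∧
    (∀ w, w * w = 1 → t * w = w * t → w = 1) ∧
    ∀ a b : alternatingGroup (Fin 4), a * a = 1 → b * b = 1 → a * b = b * a ∧ a * b * (a * b) = 1 := by
  refine ⟨⟨swap 0 2 * swap 0 1, Perm.mem_alternatingGroup.mpr (by decide)⟩,
    ⟨swap 0 1 * swap 2 3, Perm.mem_alternatingGroup.mpr (by decide)⟩,
    ⟨swap 0 2 * swap 1 3, Perm.mem_alternatingGroup.mpr (by decide)⟩, ?_, ?_, ?_, ?_, ?_, ?_⟩ <;> decide +kernel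

/-- The commutator of a stabiliser with a lift of the three-cycle. -/
theorem exists_stab_map {m : ℕ} (hm : 1 ≤ m) (π : Γ →* alternatingGroup (Fin (m + 2)))
    (hπ : Function.Surjective π) (hc : π.ker ≤ Subgroup.center Γ) :
    ∃ φ : alternatingGroup (Fin (m + 2)) → π.ker,
      (∀ g h : alternatingGroup (Fin (m + 2)), (∀ i : Fin (m + 2), (i : ℕ) < 3 → (g : Perm _) i = i) →
        (∀ i : Fin (m + 2), (i : ℕ) < 3 → (h : Perm _) i = i) → φ (g * h) = φ g * φ h) ∧
      ∀ g x : Γ, ((π x : alternatingGroup (Fin (m + 2))) : Perm (Fin (m + 2))) = tc ⟨2, by omega⟩ →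
        (∀ i : Fin (m + 2), (i : ℕ) < 3 → ((π g : alternatingGroup (Fin (m + 2))) : Perm (Fin (m + 2))) i = i) →
        g * x * g⁻¹ = (φ (π g) : Γ) * x ∧ (φ (π g)) ^ 3 = 1 := by
  classical
  let ρ : Γ →* Perm (Fin (m + 2)) := (alternatingGroup (Fin (m + 2))).subtype.comp π
  have cen : ∀ k ∈ π.ker, ∀ g, g * k = k * g := fun k hk g => Subgroup.mem_center_iff.mp (hc hk) g
  have hne : (⟨2, by omega⟩ : Fin (m + 2)) ≠ 0 := by simp [Fin.ext_iff]
  obtain ⟨X, hX⟩ := hπ ⟨tc ⟨2, by omega⟩, Perm.mem_alternatingGroup.mpr (by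
    rw [tc, map_mul, Perm.sign_swap hne.symm, Perm.sign_swap (by simp [Fin.ext_iff])]; simp)⟩
  have hX' : ρ X = tc ⟨2, by omega⟩ := congrArg Subtype.val hX
  let L : alternatingGroup (Fin (m + 2)) → Γ := Function.surjInv hπ
  have hL : ∀ h, π (L h) = h := fun h => Function.surjInv_eq hπ h
  have hmem : ∀ g : Γ, (∀ i : Fin (m + 2), (i : ℕ) < 3 → ρ g i = i) → g * X * g⁻¹ * X⁻¹ ∈ π.ker := by
    intro g hg
    show π _ = 1
    refine Subtype.ext ?_
    show ρ (g * X * g⁻¹ * X⁻¹) = 1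
    rw [map_mul, map_mul, map_mul, map_inv, map_inv, hX', conj_tc (ρ g) (hg 0 (by simp))
      (hg 1 (by simp)), hg _ (by simp), mul_inv_cancel]
  have hindep : ∀ g g' x x' : Γ, π g = π g' → π x = π x' →
      g * x * g⁻¹ * x⁻¹ = g' * x' * g'⁻¹ * x'⁻¹ := by
    intro g g' x x' hg hx
    have hk : g'⁻¹ * g ∈ π.ker := by rw [MonoidHom.mem_ker, map_mul, map_inv, hg, inv_mul_cancel]
    have hl : x'⁻¹ * x ∈ π.ker := by rw [MonoidHom.mem_ker, map_mul, map_inv, hx, inv_mul_cancel]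
    have ck := cen _ hk
    have cl := cen _ hl
    generalize hke : g'⁻¹ * g = k at ck
    generalize hle : x'⁻¹ * x = l at cl
    rw [show g = g' * k by rw [← hke]; group, show x = x' * l by rw [← hle]; group]
    calc g' * k * (x' * l) * (g' * k)⁻¹ * (x' * l)⁻¹ = g' * ((k * (x' * l)) * k⁻¹) * g'⁻¹ * (x' * l)⁻¹ := by group
      _ = g' * (x' * l) * g'⁻¹ * (x' * l)⁻¹ := by rw [← ck (x' * l), mul_inv_cancel_right]
      _ = g' * x' * (l * g'⁻¹) * l⁻¹ * x'⁻¹ := by group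
      _ = g' * x' * g'⁻¹ * x'⁻¹ := by rw [← cl g'⁻¹]; group
  refine ⟨fun h => if hh : ∀ i : Fin (m + 2), (i : ℕ) < 3 → ρ (L h) i = i then ⟨_, hmem (L h) hh⟩ else 1,
    fun g h hg hh => ?_, fun g x hx hg => ?_⟩
  · have hgh : ∀ i : Fin (m + 2), (i : ℕ) < 3 → ρ (L (g * h)) i = i := fun i hi => by
      show ((π (L (g * h)) : alternatingGroup (Fin (m + 2))) : Perm _) i = i
      rw [hL, Subgroup.coe_mul, Perm.mul_apply, hh i hi, hg i hi]
    have hg' : ∀ i : Fin (m + 2), (i : ℕ) < 3 → ρ (L g) i = i := fun i hi => by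
      show ((π (L g) : alternatingGroup (Fin (m + 2))) : Perm _) i = i
      rw [hL]; exact hg i hi
    have hh' : ∀ i : Fin (m + 2), (i : ℕ) < 3 → ρ (L h) i = i := fun i hi => by
      show ((π (L h) : alternatingGroup (Fin (m + 2))) : Perm _) i = i
      rw [hL]; exact hh i hi
    simp only [dif_pos hgh, dif_pos hg', dif_pos hh']
    refine Subtype.ext ?_
    show L (g * h) * X * (L (g * h))⁻¹ * X⁻¹ = L g * X * (L g)⁻¹ * X⁻¹ * (L h * X * (L h)⁻¹ * X⁻¹)
    rw [hindep (L (g * h)) (L g * L h) X X (by rw [map_mul, hL, hL, hL]) rfl]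
    have hb := cen _ (hmem (L h) hh')
    calc L g * L h * X * (L g * L h)⁻¹ * X⁻¹
        = L g * (L h * X * (L h)⁻¹ * X⁻¹) * X * (L g)⁻¹ * X⁻¹ := by group
      _ = (L h * X * (L h)⁻¹ * X⁻¹) * L g * X * (L g)⁻¹ * X⁻¹ := by rw [hb (L g)]
      _ = (L h * X * (L h)⁻¹ * X⁻¹) * (L g * X * (L g)⁻¹ * X⁻¹) := by group
      _ = _ := (hb _).symm
  · have hgL : ∀ i : Fin (m + 2), (i : ℕ) < 3 → ρ (L (π g)) i = i := fun i hi => by
      show ((π (L (π g)) : alternatingGroup (Fin (m + 2))) : Perm _) i = i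
      rw [hL]; exact hg i hi
    simp only [dif_pos hgL]
    have hxX : π x = π X := Subtype.ext (hx.trans hX'.symm)
    have e : g * x * g⁻¹ * x⁻¹ = L (π g) * X * (L (π g))⁻¹ * X⁻¹ := hindep _ _ _ _ (hL _).symm hxX
    refine ⟨by rw [← e, inv_mul_cancel_right], Subtype.ext ?_⟩
    show (L (π g) * X * (L (π g))⁻¹ * X⁻¹) ^ 3 = 1
    have hX3 : X ^ 3 ∈ π.ker := by
      rw [MonoidHom.mem_ker, map_pow, hX]
      refine Subtype.ext ?_
      have h := ((cyc_props m).1 0 (by omega)).1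
      rw [cyc, dif_pos (by omega)] at h
      exact h
    set u := L (π g)
    set d := u * X * u⁻¹ * X⁻¹ with hd
    have hdc := cen d (hd ▸ hmem u hgL)
    have hp : u * X ^ 3 * u⁻¹ = d ^ 3 * X ^ 3 := by
      rw [← conj_pow, show u * X * u⁻¹ = d * X by rw [hd]; group, (show Commute d X from (hdc X).symm).mul_pow]
    rw [cen _ hX3 u, mul_inv_cancel_right] at hp
    exact mul_eq_right.mp hp.symm

/-- The bound away from degrees four, six and seven. -/
theorem card_ker_le_two {m : ℕ} (hm : m = 3 ∨ 6 ≤ m) (π : Γ →* alternatingGroup (Fin (m + 2)))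
    (hπ : Function.Surjective π) (hc : π.ker ≤ Subgroup.center Γ) (hd : π.ker ≤ commutator Γ) :
    Nat.card π.ker ≤ 2 := by
  letI : CommGroup π.ker := { (inferInstance : Group π.ker) with
    mul_comm := fun a b => Subtype.ext (Subgroup.mem_center_iff.mp (hc b.2) a) }
  obtain ⟨φ, hφ, hφ'⟩ := exists_stab_map (by omega) π hπ hc
  refine card_ker_le_two_of_stab (by omega) π hπ hc hd fun g x hx hg => ?_
  rw [(hφ' g x hx hg).1, commutes_of_fixes hm φ hφ (π g) hg]
  simp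

/-- The bound in degree four. -/
theorem card_ker_le_two_four (π : Γ →* alternatingGroup (Fin 4))
    (hπ : Function.Surjective π) (hc : π.ker ≤ Subgroup.center Γ) (hd : π.ker ≤ commutator Γ) :
    Nat.card π.ker ≤ 2 := by
  classical
  obtain ⟨t, u, v, hu, hv, hV, hcov, hfix, hfour⟩ := four_facts
  obtain ⟨T, hT⟩ := hπ t
  obtain ⟨U, hU⟩ := hπ u
  obtain ⟨W, hW⟩ := hπ v
  have cen : ∀ k ∈ π.ker, ∀ g, g * k = k * g := fun k hk g => Subgroup.mem_center_iff.mp (hc hk) g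
  set c := U * W * U⁻¹ * W⁻¹ with hcdef
  have huv : u * v = v * u := (hfour u v hu hv).1
  have hck : c ∈ π.ker := by
    rw [MonoidHom.mem_ker, hcdef, map_mul, map_mul, map_mul, map_inv, map_inv, hU, hW, huv]
    group
  have hc2 : c * c = 1 := by
    have hUU : U * U ∈ π.ker := by rw [MonoidHom.mem_ker, map_mul, hU, hu]
    have e : U * c * U⁻¹ * c = (U * U) * W * (U * U)⁻¹ * W⁻¹ := by rw [hcdef]; group
    rw [cen c hck U, mul_inv_cancel_right, ← cen _ hUU W, mul_inv_cancel_right, mul_inv_cancel] at e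
    exact e
  haveI hCn : (Subgroup.zpowers c).Normal := ⟨fun a ha g => by
    rw [cen a ((Subgroup.zpowers_le.mpr hck) ha) g, mul_inv_cancel_right]; exact ha⟩
  set q := QuotientGroup.mk' (Subgroup.zpowers c) with hq
  -- elements over the four-group commute
  let K : Subgroup (Γ ⧸ Subgroup.zpowers c) :=
    (π.ker ⊔ Subgroup.closure {U, W}).map q
  have hKab : ∀ a ∈ K, ∀ b ∈ K, a * b = b * a := by
    have hle : K ≤ Subgroup.centralizer (K : Set (Γ ⧸ Subgroup.zpowers c)) := by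
      have hK : K = Subgroup.closure (q '' ((π.ker : Set Γ) ∪ {U, W})) := by
        rw [← MonoidHom.map_closure, Subgroup.closure_union, Subgroup.closure_eq]
      rw [hK, Subgroup.centralizer_closure, Subgroup.closure_le]
      rintro _ ⟨a, ha, rfl⟩
      rw [SetLike.mem_coe, Subgroup.mem_centralizer_iff]
      rintro _ ⟨b, hb, rfl⟩
      rw [← map_mul, ← map_mul]
      have hUW : q (W * U) = q (U * W) := by
        rw [hq, QuotientGroup.mk'_eq_mk']
        exact ⟨c, Subgroup.mem_zpowers c, by rw [cen c hck, hcdef]; group⟩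
      rcases ha with ha | rfl | rfl
      · rw [cen a ha b]
      · rcases hb with hb | rfl | rfl
        · rw [← cen b hb]
        · rfl
        · exact hUW
      · rcases hb with hb | rfl | rfl
        · rw [← cen b hb]
        · exact hUW.symm
        · rfl
    exact fun a ha b hb => (Subgroup.mem_centralizer_iff.mp (hle hb) a ha)
  have hmemK : ∀ g : Γ, π g * π g = 1 → q g ∈ K := by
    intro g hg
    have hU' : U ∈ Subgroup.closure {U, W} := Subgroup.subset_closure (Or.inl rfl)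
    have hW' : W ∈ Subgroup.closure {U, W} := Subgroup.subset_closure (Or.inr rfl)
    have : ∀ Y ∈ Subgroup.closure {U, W}, π Y = π g → q g ∈ K := fun Y hY hYg => by
      refine ⟨g, ?_, rfl⟩
      rw [show g = Y * (Y⁻¹ * g) by group]
      exact mul_mem (Subgroup.mem_sup_right hY) (Subgroup.mem_sup_left (by
        rw [MonoidHom.mem_ker, map_mul, map_inv, hYg, inv_mul_cancel]))
    rcases hV _ hg with h | h | h | h
    · exact this 1 (one_mem _) (by rw [map_one, h])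
    · exact this U hU' (by rw [hU, h])
    · exact this W hW' (by rw [hW, h])
    · exact this (U * W) (mul_mem hU' hW') (by rw [map_mul, hU, hW, h])
  have hKπ : ∀ g : Γ, q g ∈ K → π g * π g = 1 := by
    rintro g ⟨y, hy, hye⟩
    rw [hq, QuotientGroup.mk'_eq_mk'] at hye
    obtain ⟨k, hk, rfl⟩ := hye
    rw [map_mul, MonoidHom.mem_ker.mp ((Subgroup.zpowers_le.mpr hck) hk), mul_one]
    rw [SetLike.mem_coe, ← Subgroup.closure_eq π.ker, ← Subgroup.closure_union] at hy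
    have hab := fun a b ha hb => (hfour a b ha hb).2
    induction hy using Subgroup.closure_induction with
    | mem y hy =>
      rcases hy with hy | rfl | rfl
      · rw [MonoidHom.mem_ker.mp hy, one_mul]
      · rw [hU, hu]
      · rw [hW, hv]
    | one => rw [map_one, one_mul]
    | mul a b _ _ ha hb => rw [map_mul]; exact hab _ _ ha hb
    | inv a _ ha => rw [map_inv, ← mul_inv_rev, ha, inv_one]
  have hKn : ∀ g a, a ∈ K → g * a * g⁻¹ ∈ K := by
    intro g a ha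
    obtain ⟨g', rfl⟩ := QuotientGroup.mk'_surjective (Subgroup.zpowers c) g
    obtain ⟨a', rfl⟩ := QuotientGroup.mk'_surjective (Subgroup.zpowers c) a
    rw [← map_mul, ← map_inv, ← map_mul]
    refine hmemK _ ?_
    have h := hKπ a' ha
    rw [map_mul, map_mul, map_inv]
    calc π g' * π a' * (π g')⁻¹ * (π g' * π a' * (π g')⁻¹) = π g' * (π a' * π a') * (π g')⁻¹ := by group
      _ = 1 := by rw [h]; group
  set T' := q T with hT'
  -- the commutators with `T`
  let ψ : K →* K := MonoidHom.mk'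
    (fun a => ⟨T' * a * T'⁻¹ * (a : Γ ⧸ Subgroup.zpowers c)⁻¹, mul_mem (hKn _ _ a.2) (inv_mem a.2)⟩)
    fun a b => by
      refine Subtype.ext ?_
      show T' * ((a : Γ ⧸ Subgroup.zpowers c) * (b : Γ ⧸ Subgroup.zpowers c)) * T'⁻¹ * ((a : Γ ⧸ Subgroup.zpowers c) * (b : Γ ⧸ Subgroup.zpowers c))⁻¹ =
        T' * a * T'⁻¹ * (a : Γ ⧸ Subgroup.zpowers c)⁻¹ * (T' * (b : Γ ⧸ Subgroup.zpowers c) * T'⁻¹ * (b : Γ ⧸ Subgroup.zpowers c)⁻¹)
      have h1 : (T' * (b : Γ ⧸ Subgroup.zpowers c) * T'⁻¹ * (b : Γ ⧸ Subgroup.zpowers c)⁻¹) * (a : Γ ⧸ Subgroup.zpowers c)⁻¹ =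
          (a : Γ ⧸ Subgroup.zpowers c)⁻¹ * (T' * (b : Γ ⧸ Subgroup.zpowers c) * T'⁻¹ * (b : Γ ⧸ Subgroup.zpowers c)⁻¹) :=
        hKab _ (mul_mem (hKn _ _ b.2) (inv_mem b.2)) _ (inv_mem a.2)
      calc T' * ((a : Γ ⧸ Subgroup.zpowers c) * (b : Γ ⧸ Subgroup.zpowers c)) * T'⁻¹ * ((a : Γ ⧸ Subgroup.zpowers c) * (b : Γ ⧸ Subgroup.zpowers c))⁻¹
          = T' * a * T'⁻¹ * ((T' * (b : Γ ⧸ Subgroup.zpowers c) * T'⁻¹ * (b : Γ ⧸ Subgroup.zpowers c)⁻¹) * (a : Γ ⧸ Subgroup.zpowers c)⁻¹) := by group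
        _ = _ := by rw [h1]; group
  set R := ψ.range.map K.subtype with hR
  have hTR : ∀ r ∈ R, T' * r * T'⁻¹ ∈ R := by
    rintro _ ⟨_, ⟨a, rfl⟩, rfl⟩
    refine ⟨ψ ⟨T' * (a : Γ ⧸ Subgroup.zpowers c) * T'⁻¹, hKn _ _ a.2⟩, ⟨_, rfl⟩, ?_⟩
    show T' * (T' * (a : Γ ⧸ Subgroup.zpowers c) * T'⁻¹) * T'⁻¹ * (T' * (a : Γ ⧸ Subgroup.zpowers c) * T'⁻¹)⁻¹ =
      T' * (T' * (a : Γ ⧸ Subgroup.zpowers c) * T'⁻¹ * (a : Γ ⧸ Subgroup.zpowers c)⁻¹) * T'⁻¹
    group
  have hcovq : ∀ g, ∃ (i : ℕ) (a : Γ ⧸ Subgroup.zpowers c), a ∈ K ∧ g = T' ^ i * a := by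
    intro g
    obtain ⟨g', rfl⟩ := QuotientGroup.mk'_surjective (Subgroup.zpowers c) g
    rcases hcov (π g') with h | h | h
    · exact ⟨0, q g', hmemK _ h, by rw [pow_zero, one_mul]⟩
    · exact ⟨1, q (T⁻¹ * g'), hmemK _ (by rw [map_mul, map_inv, hT]; exact h), by
        rw [hT', pow_one, ← map_mul, mul_inv_cancel_left]⟩
    · exact ⟨2, q (T⁻¹ * T⁻¹ * g'), hmemK _ (by rw [map_mul, map_mul, map_inv, hT]; exact h), by
        rw [hT', pow_two, ← map_mul, ← map_mul]; congr 1; group⟩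
  haveI hRn : R.Normal := ⟨fun r hr g => by
    obtain ⟨i, a, ha, rfl⟩ := hcovq g
    have hrK : r ∈ K := Subgroup.map_subtype_le _ hr
    have e : a * r * a⁻¹ = r := by rw [hKab a ha r hrK, mul_inv_cancel_right]
    rw [show T' ^ i * a * r * (T' ^ i * a)⁻¹ = T' ^ i * (a * r * a⁻¹) * (T' ^ i)⁻¹ by group, e]
    clear e hrK
    induction i with
    | zero => simpa using hr
    | succ i ih =>
      rw [pow_succ', show T' * T' ^ i * r * (T' * T' ^ i)⁻¹ = T' * (T' ^ i * r * (T' ^ i)⁻¹) * T'⁻¹ by group]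
      exact hTR _ ih⟩
  set p := QuotientGroup.mk' R with hp
  have hTK : ∀ a ∈ K, p T' * p a = p a * p T' := fun a ha => by
    rw [← commutatorElement_eq_one_iff_mul_comm, ← map_commutatorElement, hp, QuotientGroup.mk'_apply,
      QuotientGroup.eq_one_iff]
    exact ⟨ψ ⟨a, ha⟩, ⟨_, rfl⟩, rfl⟩
  have hcommle : commutator (Γ ⧸ Subgroup.zpowers c) ≤ R := by
    rw [_root_.commutator_def, Subgroup.commutator_le]
    intro g _ g' _
    rw [← QuotientGroup.eq_one_iff, ← QuotientGroup.mk'_apply, map_commutatorElement,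
      commutatorElement_eq_one_iff_mul_comm]
    obtain ⟨i, a, ha, rfl⟩ := hcovq g
    obtain ⟨j, b, hb, rfl⟩ := hcovq g'
    have h1 : Commute (p T') (p a) := hTK a ha
    have h2 : Commute (p T') (p b) := hTK b hb
    have h3 : Commute (p a) (p b) := by
      show p a * p b = p b * p a
      rw [← map_mul, ← map_mul, hKab a ha b hb]
    rw [map_mul, map_mul, map_pow, map_pow]
    exact (((Commute.refl (p T')).pow_pow i j).mul_right (h2.pow_left i)).mul_left
      ((h1.symm.pow_right j).mul_right h3)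
  have hinj : ∀ z ∈ π.ker, q z = 1 := by
    intro z hz
    have h1 : q z ∈ R := by
      refine hcommle ?_
      have := Subgroup.mem_map_of_mem q (hd hz)
      rw [_root_.commutator_def, Subgroup.map_commutator] at this
      rw [_root_.commutator_def]
      exact (Subgroup.commutator_mono le_top le_top) this
    obtain ⟨_, ⟨a, rfl⟩, he⟩ := h1
    obtain ⟨a', ha'⟩ := QuotientGroup.mk'_surjective (Subgroup.zpowers c) (a : Γ ⧸ Subgroup.zpowers c)
    have ha'' : π a' * π a' = 1 := hKπ a' (show q a' ∈ K from ha' ▸ a.2)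
    have e : q z = q (T * a' * T⁻¹ * a'⁻¹) := by
      rw [map_mul, map_mul, map_mul, map_inv, map_inv, ← hT', ha']
      exact he.symm
    rw [hq, QuotientGroup.mk'_eq_mk'] at e
    obtain ⟨k, hk, e'⟩ := e
    have h2 := congrArg π e'
    rw [map_mul, MonoidHom.mem_ker.mp hz, MonoidHom.mem_ker.mp ((Subgroup.zpowers_le.mpr hck) hk), one_mul,
      map_mul, map_mul, map_mul, map_inv, map_inv, hT] at h2
    have h3 := hfix _ ha'' (by
      have := mul_inv_eq_iff_eq_mul.mp (mul_inv_eq_one.mp h2.symm)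
      exact this)
    have hak : a' ∈ π.ker := h3
    rw [← (show T' * (a : Γ ⧸ Subgroup.zpowers c) * T'⁻¹ * (a : Γ ⧸ Subgroup.zpowers c)⁻¹ = q z from he), ← ha']
    rw [hT', ← map_inv, ← map_inv, ← map_mul, ← map_mul, ← map_mul, cen a' hak T]
    simp
  calc Nat.card π.ker ≤ Nat.card (Subgroup.zpowers c) := Subgroup.card_le_of_le fun z hz => by
        rw [← QuotientGroup.eq_one_iff]; exact hinj z hz
    _ ≤ 2 := by
        rw [Nat.card_zpowers]
        exact Nat.le_of_dvd two_pos (orderOf_dvd_of_pow_eq_one (by rw [pow_two]; exact hc2))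

end Cfsg.Agent.AltCover
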