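import Cfsg.Agent.S0447

/-! A double cover of every alternating group inside a Clifford algebra in characteristic three. -/

set_option autoImplicit false

namespace Cfsg.Agent.AltCover

open Equiv Cfsg.Agent.S0447

/-- Sign vectors. -/
abbrev V (m : ℕ) := Fin (m + 1) → Bool

/-- A monomial matrix. -/
def mon {m : ℕ} (σ : V m → V m) (c : V m → ZMod 3) : Matrix (V m) (V m) (ZMod 3) :=
  Matrix.of fun v w => if w = σ v then c v else 0

theorem mon_mul {m : ℕ} (σ τ : V m → V m) (c d : V m → ZMod 3) :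
    mon σ c * mon τ d = mon (fun v => τ (σ v)) (fun v => c v * d (σ v)) := by
  ext v w
  rw [Matrix.mul_apply, Finset.sum_eq_single (σ v)]
  · simp [mon, Matrix.of_apply]
  · intro u _ hu; simp [mon, Matrix.of_apply, hu]
  · intro h; exact absurd (Finset.mem_univ _) h

theorem mon_id {m : ℕ} (c : ZMod 3) : mon (id : V m → V m) (fun _ => c) = c • 1 := by
  ext v w
  simp [mon, Matrix.one_apply, eq_comm]

theorem mon_neg {m : ℕ} (σ : V m → V m) (c : V m → ZMod 3) : mon σ (fun v => - c v) = - mon σ c := by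
  ext v w
  simp [mon]
  split <;> simp

/-- A flip of one coordinate. -/
def flipAt {m : ℕ} (i : Fin (m + 1)) (v : V m) : V m := Function.update v i (!(v i))

/-- The Jordan–Wigner sign. -/
def sgn {m : ℕ} (i : Fin (m + 1)) (v : V m) : ZMod 3 :=
  ∏ j ∈ Finset.univ.filter (· < i), if v j then -1 else 1

theorem sgn_flip {m : ℕ} (i j : Fin (m + 1)) (v : V m) :
    sgn i (flipAt j v) = if j < i then - sgn i v else sgn i v := by
  classical
  by_cases h : j < i
  · rw [if_pos h, sgn, sgn, ← Finset.mul_prod_erase _ _ (a := j) (by simp [h]),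
      ← Finset.mul_prod_erase _ (fun k => if v k then (-1 : ZMod 3) else 1) (a := j) (by simp [h]),
      ← neg_mul]
    congr 1
    · cases hb : v j <;> simp [flipAt, hb]
    · refine Finset.prod_congr rfl fun k hk => ?_
      simp [flipAt, Function.update_of_ne (Finset.mem_erase.mp hk).1]
  · rw [if_neg h, sgn, sgn]
    refine Finset.prod_congr rfl fun k hk => ?_
    have : k ≠ j := fun e => h (e ▸ (Finset.mem_filter.mp hk).2)
    simp [flipAt, Function.update_of_ne this]

theorem sgn_sq {m : ℕ} (i : Fin (m + 1)) (v : V m) : sgn i v * sgn i v = 1 := by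
  rw [sgn, ← Finset.prod_mul_distrib]
  exact Finset.prod_eq_one fun k _ => by split <;> simp

theorem flip_flip {m : ℕ} (i : Fin (m + 1)) (v : V m) : flipAt i (flipAt i v) = v := by
  funext k
  by_cases h : k = i
  · subst h; simp [flipAt]
  · simp [flipAt, Function.update_of_ne h]

theorem flip_comm {m : ℕ} {i j : Fin (m + 1)} (h : i ≠ j) (v : V m) :
    flipAt i (flipAt j v) = flipAt j (flipAt i v) := by
  funext k
  by_cases hi : k = i
  · subst hi; simp [flipAt, Function.update_of_ne h]
  · by_cases hj : k = j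
    · subst hj; simp [flipAt, Function.update_of_ne hi]
    · simp [flipAt, Function.update_of_ne hi, Function.update_of_ne hj]

/-- Anticommuting square roots of one. -/
def gam {m : ℕ} (i : Fin m) : Matrix (V m) (V m) (ZMod 3) :=
  mon (flipAt i.castSucc) (sgn i.castSucc)

/-- An anticommuting square root of minus one. -/
def gf (m : ℕ) : Matrix (V m) (V m) (ZMod 3) :=
  mon (flipAt (Fin.last m)) fun v => sgn (Fin.last m) v * if v (Fin.last m) then -1 else 1

theorem gam_sq {m : ℕ} (i : Fin m) : gam i * gam i = 1 := by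
  rw [gam, mon_mul]
  rw [show (fun v => flipAt i.castSucc (flipAt i.castSucc v)) = (id : V m → V m) from funext (flip_flip _),
    show (fun v => sgn i.castSucc v * sgn i.castSucc (flipAt i.castSucc v)) = fun _ : V m => (1 : ZMod 3)
      from funext fun v => by rw [sgn_flip, if_neg (lt_irrefl _), sgn_sq], mon_id, one_smul]

theorem gam_anti {m : ℕ} {i j : Fin m} (h : i ≠ j) : gam i * gam j = - (gam j * gam i) := by
  have h' : i.castSucc ≠ j.castSucc := fun e => h (Fin.castSucc_injective _ e)
  rw [gam, gam, mon_mul, mon_mul, ← mon_neg,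
    show (fun v => flipAt i.castSucc (flipAt j.castSucc v)) =
      fun v => flipAt j.castSucc (flipAt i.castSucc v) from funext (flip_comm h')]
  congr 1
  funext v
  rw [sgn_flip, sgn_flip]
  rcases lt_or_gt_of_ne h' with hl | hl
  · rw [if_pos hl, if_neg hl.asymm]; ring
  · rw [if_neg hl.asymm, if_pos hl]; ring

theorem gf_sq (m : ℕ) : gf m * gf m = -1 := by
  rw [gf, mon_mul]
  rw [show (fun v => flipAt (Fin.last m) (flipAt (Fin.last m) v)) = (id : V m → V m) from
      funext (flip_flip _),
    show (fun v => (sgn (Fin.last m) v * if v (Fin.last m) then -1 else 1) *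
      (sgn (Fin.last m) (flipAt (Fin.last m) v) *
        if (flipAt (Fin.last m) v) (Fin.last m) then -1 else 1)) = fun _ : V m => (-1 : ZMod 3)
      from funext fun v => by
        rw [sgn_flip, if_neg (lt_irrefl _)]
        have h := sgn_sq (Fin.last m) v
        cases hb : v (Fin.last m) <;> simp [flipAt, hb, h],
    mon_id, neg_one_smul]

theorem gf_anti {m : ℕ} (i : Fin m) : gam i * gf m = - (gf m * gam i) := by
  have h' : i.castSucc ≠ Fin.last m := Fin.castSucc_ne_last i
  rw [gam, gf, mon_mul, mon_mul, ← mon_neg,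
    show (fun v => flipAt i.castSucc (flipAt (Fin.last m) v)) =
      fun v => flipAt (Fin.last m) (flipAt i.castSucc v) from funext (flip_comm h')]
  congr 1
  funext v
  rw [sgn_flip, sgn_flip, if_pos (Fin.castSucc_lt_last i), if_neg (Fin.castSucc_lt_last i).asymm,
    show flipAt i.castSucc v (Fin.last m) = v (Fin.last m) from Function.update_of_ne h'.symm _ _]
  ring

/-- Nilpotent combinations. -/
def nil {m : ℕ} (i : Fin m) : Matrix (V m) (V m) (ZMod 3) := gam i + gf m

theorem nil_sq {m : ℕ} (i : Fin m) : nil i * nil i = 0 := by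
  rw [nil, add_mul, mul_add, mul_add, gam_sq, gf_sq, gf_anti]; abel

theorem nil_anti {m : ℕ} {i j : Fin m} (h : i ≠ j) : nil i * nil j + nil j * nil i = 1 := by
  rw [nil, nil, add_mul, mul_add, mul_add, add_mul, mul_add, mul_add, gam_anti h, gf_anti, gf_anti, gf_sq]
  have h3 : (1 : Matrix (V m) (V m) (ZMod 3)) + 1 + 1 = 0 := by
    have : ((3 : ℕ) : ZMod 3) = 0 := ZMod.natCast_self 3
    have h := congrArg (fun c : ZMod 3 => c • (1 : Matrix (V m) (V m) (ZMod 3))) this
    simp only [zero_smul] at h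
    rw [show ((3 : ℕ) : ZMod 3) = 1 + 1 + 1 by norm_num, add_smul, add_smul, one_smul] at h
    exact h
  have e : (-1 : Matrix (V m) (V m) (ZMod 3)) + -1 = 1 := by
    calc (-1 : Matrix (V m) (V m) (ZMod 3)) + -1 = 1 - (1 + 1 + 1) := by abel
      _ = 1 := by rw [h3, sub_zero]
  refine Eq.trans ?_ e
  abel

theorem char_three {m : ℕ} (x : Matrix (V m) (V m) (ZMod 3)) : x + x + x = 0 := by
  rw [← one_smul (ZMod 3) x, ← add_smul, ← add_smul]
  rw [show (1 : ZMod 3) + 1 + 1 = 0 by decide, zero_smul]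

theorem cube_one {m : ℕ} (i : Fin m) : (1 + nil i) * ((1 + nil i) * (1 + nil i)) = 1 := by
  have e : (1 + nil i) * ((1 + nil i) * (1 + nil i)) =
      1 + (nil i + nil i + nil i) + (nil i * nil i + nil i * nil i + nil i * nil i) +
        nil i * (nil i * nil i) := by noncomm_ring
  rw [e, nil_sq, char_three (nil i)]
  simp

theorem pair_sq {m : ℕ} {i j : Fin m} (h : i ≠ j) :
    (1 + nil i) * (1 + nil j) * ((1 + nil i) * (1 + nil j)) = -1 := by
  have hanti := nil_anti h
  generalize hs : nil i = s at hanti ⊢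
  generalize ht : nil j = t at hanti ⊢
  have hss : s * s = 0 := hs ▸ nil_sq i
  have htt : t * t = 0 := ht ▸ nil_sq j
  have hts : t * s = 1 - s * t := eq_sub_of_add_eq' hanti
  have e1 : s * t * (s * t) = s * t := by
    rw [← mul_assoc, mul_assoc s t s, hts, mul_sub, mul_one, sub_mul, ← mul_assoc, hss]
    simp
  have e2 : t * (s * t) = t := by rw [← mul_assoc, hts, sub_mul, one_mul, mul_assoc, htt]; simp
  have e3 : s * t * s = s := by rw [mul_assoc, hts, mul_sub, mul_one, ← mul_assoc, hss]; simp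
  calc (1 + s) * (1 + t) * ((1 + s) * (1 + t))
      = 1 + (s + s) + (t + t) + (s * t + s * t) + (s * s + t * t + (s * t + t * s)) +
          (s * (s * t) + s * t * t) + (t * (s * t) + s * t * s) + s * t * (s * t) := by noncomm_ring
    _ = 1 + (s + s) + (t + t) + (s * t + s * t) + (0 + 0 + 1) + (0 + 0) + (t + s) + s * t := by
        rw [hanti, e1, e2, e3, ← mul_assoc s s t, hss, mul_assoc s t t, htt]; simp
    _ = -1 + (1 + 1 + 1) + (s + s + s) + (t + t + t) + (s * t + s * t + s * t) := by abel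
    _ = -1 := by rw [char_three, char_three, char_three, char_three]; simp

/-- The unit lifting a three-cycle. -/
def lift {m : ℕ} (i : Fin m) : (Matrix (V m) (V m) (ZMod 3))ˣ :=
  ⟨1 + nil i, (1 + nil i) * (1 + nil i), cube_one i, by rw [mul_assoc]; exact cube_one i⟩

theorem exists_double_cover (m : ℕ) (hm : 2 ≤ m) :
    ∃ (Γ : Type) (_ : Group Γ) (_ : Finite Γ) (z : Γ) (hz : z ∈ Subgroup.center Γ), orderOf z = 2 ∧
      z ∈ commutator Γ ∧ ∃ _ : (Subgroup.zpowers z).Normal,
        Nonempty (Γ ⧸ Subgroup.zpowers z ≃* alternatingGroup (Fin (m + 2))) := by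
  classical
  let K := alternatingGroup (Fin (m + 2)) × (Matrix (V m) (V m) (ZMod 3))ˣ
  let gen : Fin m → K := fun i => (⟨cyc m i, ((cyc_props m).1 i i.2).2⟩, lift i)
  let zK : K := (1, -1)
  set D := Subgroup.closure (Set.range gen) with hD
  have hrel : ∀ i j, i ≠ j → gen i * gen j * (gen i * gen j) = zK := fun i j hij => by
    refine Prod.ext (Subtype.ext ?_) (Units.ext ?_)
    · show cyc m i * cyc m j * (cyc m i * cyc m j) = 1
      rw [← pow_two]
      exact ((cyc_props m).2 i i.2 j j.2 fun e => hij (Fin.ext e)).1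
    · show (1 + nil i) * (1 + nil j) * ((1 + nil i) * (1 + nil j)) = _
      rw [pair_sq hij]
      simp [zK]
  have hcube : ∀ i, gen i ^ 3 = 1 := fun i => by
    refine Prod.ext (Subtype.ext ?_) (Units.ext ?_)
    · exact ((cyc_props m).1 i i.2).1
    · show (1 + nil i) ^ 3 = 1
      rw [pow_succ', pow_two]; exact cube_one i
  have hgen : ∀ i, gen i ∈ D := fun i => Subgroup.subset_closure ⟨i, rfl⟩
  let i0 : Fin m := ⟨0, by omega⟩
  let i1 : Fin m := ⟨1, by omega⟩
  have h01 : i0 ≠ i1 := by simp [i0, i1]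
  have hzD : zK ∈ D := hrel i0 i1 h01 ▸
    D.mul_mem (D.mul_mem (hgen _) (hgen _)) (D.mul_mem (hgen _) (hgen _))
  let z : D := ⟨zK, hzD⟩
  have hzc : z ∈ Subgroup.center D := Subgroup.mem_center_iff.mpr fun d => Subtype.ext
    (Prod.ext (by show (d : K).1 * 1 = 1 * (d : K).1; simp)
      (Units.ext (by show ((d : K).2 * -1 : _).val = ((-1 : _) * (d : K).2).val; simp)))
  have hz2 : z * z = 1 := Subtype.ext (Prod.ext (by show (1 : alternatingGroup (Fin (m + 2))) * 1 = 1; simp)
    (by show (-1 : (Matrix (V m) (V m) (ZMod 3))ˣ) * -1 = 1; simp))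
  have hz1 : z ≠ 1 := by
    intro h
    have h' := congrArg (fun d : D => ((d : K).2 : Matrix (V m) (V m) (ZMod 3))) h
    have h'' := congrFun (congrFun h' (fun _ => true)) (fun _ => true)
    simp [z, zK] at h''
    exact absurd h'' (by decide)
  have hord : orderOf z = 2 := orderOf_eq_prime (by rw [pow_two]; exact hz2) hz1
  let Y : ℕ → D := fun i => if h : i < m then ⟨gen ⟨i, h⟩, hgen _⟩ else 1
  have hY : ∀ i : Fin m, Y i = ⟨gen i, hgen i⟩ := fun i => by simp [Y]
  have hclos : Subgroup.closure (Y '' {i | i < m}) = ⊤ := by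
    rw [eq_top_iff, ← Subgroup.closure_preimage_eq_top (Set.range gen)]
    refine (Subgroup.closure_le _).mpr ?_
    rintro ⟨d, hd⟩ ⟨i, rfl⟩
    exact Subgroup.subset_closure ⟨i, i.2, hY i⟩
  have hzcomm : z ∈ commutator D := by
    rw [← Abelianization.ker_of, MonoidHom.mem_ker]
    have e : z = Y i0 * Y i1 * (Y i0 * Y i1) := by
      rw [hY, hY]; exact Subtype.ext (hrel i0 i1 h01).symm
    have c3 : ∀ i : Fin m, (Abelianization.of (Y i)) ^ 3 = 1 := fun i => by
      rw [← map_pow, hY, show (⟨gen i, hgen i⟩ : D) ^ 3 = 1 from Subtype.ext (hcube i), map_one]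
    have h2 : (Abelianization.of z) ^ 2 = 1 := by rw [← map_pow, pow_two, hz2, map_one]
    have h3 : (Abelianization.of z) ^ 3 = 1 := by
      have h : Abelianization.of z = Abelianization.of (Y i0) ^ 2 * Abelianization.of (Y i1) ^ 2 := by
        rw [e, map_mul, map_mul, pow_two, pow_two, mul_mul_mul_comm]
      rw [h, mul_pow, ← pow_mul, ← pow_mul, mul_comm 2 3, pow_mul, pow_mul, c3, c3]
      simp
    rw [pow_succ, h2, one_mul] at h3
    exact h3
  haveI hn : (Subgroup.zpowers z).Normal := ⟨fun a ha g => by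
    rw [Subgroup.mem_center_iff.mp ((Subgroup.zpowers_le.mpr hzc) ha) g, mul_inv_cancel_right]
    exact ha⟩
  let π : D →* alternatingGroup (Fin (m + 2)) := (MonoidHom.fst _ _).comp D.subtype
  let πb : D ⧸ Subgroup.zpowers z →* alternatingGroup (Fin (m + 2)) :=
    QuotientGroup.lift _ π (Subgroup.zpowers_le.mpr rfl)
  have hsur : Function.Surjective πb := by
    intro a
    have hle : alternatingGroup (Fin (m + 2)) ≤ π.range.map (alternatingGroup (Fin (m + 2))).subtype := by
      refine (cyc_gen m).trans ?_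
      rw [Subgroup.closure_le]
      rintro _ ⟨i, hi, rfl⟩
      exact ⟨(gen ⟨i, hi⟩).1, ⟨⟨gen ⟨i, hi⟩, hgen _⟩, rfl⟩, rfl⟩
    obtain ⟨a', ⟨d, hd⟩, ha'⟩ := hle a.2
    exact ⟨QuotientGroup.mk d, hd.trans (Subtype.ext ha')⟩
  have hcard := pres_card (fun i => QuotientGroup.mk' (Subgroup.zpowers z) (Y i)) m
    (fun i hi => by
      simp only [← map_pow]
      rw [hY ⟨i, hi⟩, show (⟨gen ⟨i, hi⟩, hgen _⟩ : D) ^ 3 = 1 from Subtype.ext (hcube _), map_one])
    (fun i hi j hj hij => by
      simp only [← map_mul, ← map_pow]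
      refine (QuotientGroup.eq_one_iff _).mpr ?_
      rw [hY ⟨i, hi⟩, hY ⟨j, hj⟩, show ((⟨gen ⟨i, hi⟩, hgen _⟩ : D) * ⟨gen ⟨j, hj⟩, hgen _⟩) ^ 2 = z from
        Subtype.ext (by
          rw [SubmonoidClass.coe_pow, pow_two]
          exact hrel _ _ fun e => hij (congrArg Fin.val e))]
      exact Subgroup.mem_zpowers _)
  rw [show (fun i => QuotientGroup.mk' (Subgroup.zpowers z) (Y i)) =
      (QuotientGroup.mk' (Subgroup.zpowers z)) ∘ Y from rfl, Set.image_comp, ← MonoidHom.map_closure, hclos,
    Subgroup.map_top_of_surjective _ (QuotientGroup.mk'_surjective _), Subgroup.card_top, ← card_alt m] at hcard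
  have hbij : Function.Bijective πb := (Nat.bijective_iff_surjective_and_card _).2 ⟨hsur,
    le_antisymm (Nat.le_of_mul_le_mul_left hcard two_pos) (Nat.card_le_card_of_surjective _ hsur)⟩
  exact ⟨D, inferInstance, inferInstance, z, hzc, hord, hzcomm, hn, ⟨MulEquiv.ofBijective πb hbij⟩⟩

end Cfsg.Agent.AltCover
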