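import Cfsg.Agent.Lib.AltCover.Six
import Cfsg.Agent.S0254
import Mathlib.RingTheory.RootsOfUnity.PrimitiveRoots

/-! The threefold cover of the special linear group of degree two over nine elements. -/

set_option autoImplicit false

namespace Cfsg.Agent.AltCover

open scoped commutatorElement

universe u

/-- A stem extension of a perfect group is perfect. -/
theorem stem_perfect {Γ : Type*} {G : Type*} [Group Γ] [Group G] (σ : Γ →* G) (hσ : Cfsg.IsStemExtension σ)
    (hG : commutator G = ⊤) : commutator Γ = ⊤ := by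
  rw [eq_top_iff]
  intro g _
  have h : σ g ∈ (commutator Γ).map σ := by
    rw [_root_.commutator_def, Subgroup.map_commutator, Subgroup.map_top_of_surjective σ hσ.1,
      ← _root_.commutator_def, hG]
    exact Subgroup.mem_top _
  obtain ⟨d, hd, hdg⟩ := h
  have hk : d⁻¹ * g ∈ σ.ker := by rw [MonoidHom.mem_ker, map_mul, map_inv, hdg, inv_mul_cancel]
  have := (commutator Γ).mul_mem hd (hσ.2.2 hk)
  rwa [mul_inv_cancel_left] at this

/-- A composition of central extensions of perfect groups is central. -/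
theorem ker_comp_central {Γ G A : Type*} [Group Γ] [Group G] [Group A] (σ : Γ →* G) (q : G →* A)
    (hσ : σ.ker ≤ Subgroup.center Γ) (hs : Function.Surjective σ) (hq : q.ker ≤ Subgroup.center G)
    (hP : commutator Γ = ⊤) : (q.comp σ).ker ≤ Subgroup.center Γ := by
  intro x hx
  have hz : ∀ g : Γ, ⁅x, g⁆ ∈ σ.ker := fun g => by
    rw [MonoidHom.mem_ker, map_commutatorElement, commutatorElement_eq_one_iff_mul_comm]
    exact (Subgroup.mem_center_iff.mp (hq (show σ x ∈ q.ker from hx)) (σ g)).symm
  let f : Γ →* Subgroup.center Γ := MonoidHom.mk' (fun g => ⟨⁅x, g⁆, hσ (hz g)⟩) fun g h => by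
    refine Subtype.ext ?_
    rw [Subgroup.coe_mul]
    show ⁅x, g * h⁆ = ⁅x, g⁆ * ⁅x, h⁆
    have c := Subgroup.mem_center_iff.mp (hσ (hz h)) g
    calc ⁅x, g * h⁆ = ⁅x, g⁆ * (g * ⁅x, h⁆ * g⁻¹) := by simp only [commutatorElement_def]; group
      _ = _ := by rw [c, mul_inv_cancel_right]
  rw [Subgroup.mem_center_iff]
  intro g
  have hg : g ∈ f.ker := by
    have hle : commutator Γ ≤ f.ker := by
      rw [_root_.commutator_def, Subgroup.commutator_le]
      intro a _ b _
      rw [MonoidHom.mem_ker, map_commutatorElement, commutatorElement_eq_one_iff_mul_comm]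
      exact Subtype.ext (Subgroup.mem_center_iff.mp (f b).2 (f a : Γ))
    exact hle (hP ▸ Subgroup.mem_top g)
  have h1 : ⁅x, g⁆ = 1 := congrArg Subtype.val (MonoidHom.mem_ker.mp hg)
  exact (commutatorElement_eq_one_iff_mul_comm.mp h1).symm

theorem card_ker_mul {Γ G : Type*} [Group Γ] [Group G] (σ : Γ →* G) (hs : Function.Surjective σ) :
    Nat.card σ.ker * Nat.card G = Nat.card Γ := by
  have h := σ.ker.card_mul_index
  rwa [Subgroup.index_ker, MonoidHom.range_eq_top.mpr hs, Subgroup.card_top] at h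

section SL

variable {F : Type u} [Field F] [Fintype F]

theorem card_center_sl_two (hF : Fintype.card F = 9) :
    Nat.card (Subgroup.center (Matrix.SpecialLinearGroup (Fin 2) F)) = 2 := by
  classical
  haveI : NeZero (2 : ℕ) := ⟨two_ne_zero⟩
  rw [Nat.card_congr (Matrix.SpecialLinearGroup.center_equiv_rootsOfUnity
    (n := Fin 2) (R := F)).toEquiv]
  have h2 : ringChar F ≠ 2 := fun h => by
    have := FiniteField.even_card_of_char_two (F := F) h
    omega
  have hp : IsPrimitiveRoot (-1 : F) 2 := IsPrimitiveRoot.neg_one (ringChar F) h2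
  simpa using hp.card_rootsOfUnity

theorem exists_map_six (hF : Fintype.card F = 9) :
    commutator (Matrix.SpecialLinearGroup (Fin 2) F) = ⊤ ∧
    ∃ q : Matrix.SpecialLinearGroup (Fin 2) F →* alternatingGroup (Fin 6),
      Function.Surjective q ∧ q.ker ≤ Subgroup.center _ ∧ Nat.card q.ker = 2 := by
  classical
  refine ⟨?_, ?_⟩
  · obtain ⟨a, ha⟩ : ∃ a : F, a ≠ 0 ∧ a ^ 2 ≠ 1 := by
      by_contra hc
      push Not at hc
      have hle : (Finset.univ : Finset F) ⊆ {0, 1, -1} := fun a _ => by
        rcases eq_or_ne a 0 with rfl | h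
        · simp
        · rcases sq_eq_one_iff.mp (hc a h) with rfl | rfl <;> simp
      have := (Finset.card_le_card hle).trans Finset.card_le_three
      rw [Finset.card_univ, hF] at this
      omega
    exact Matrix.SL2.commutator_eq_top ha.1 ha.2
  · obtain ⟨e⟩ := Cfsg.Agent.S0254.result hF
    let q := e.toMonoidHom.comp (QuotientGroup.mk' (Subgroup.center (Matrix.SpecialLinearGroup (Fin 2) F)))
    have hk : q.ker = Subgroup.center (Matrix.SpecialLinearGroup (Fin 2) F) := by
      ext x
      simp [q]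
    exact ⟨q, e.surjective.comp (QuotientGroup.mk'_surjective _), hk.le, hk ▸ card_center_sl_two hF⟩

theorem card_ker_dvd_three (hF : Fintype.card F = 9) {Γ : Type u} [Group Γ] [Finite Γ]
    (σ : Γ →* Matrix.SpecialLinearGroup (Fin 2) F) (hσ : Cfsg.IsStemExtension σ) :
    Nat.card σ.ker ∣ 3 := by
  classical
  obtain ⟨hG, q, hqs, hqc, hq2⟩ := exists_map_six hF
  have hP := stem_perfect σ hσ hG
  have h := card_ker_dvd_six (m := 4) (Or.inl rfl) (q.comp σ) (hqs.comp hσ.1)
    (ker_comp_central σ q hσ.2.1 hσ.1 hqc hP) (hP ▸ le_top)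
  have e1 := card_ker_mul σ hσ.1
  have e2 := card_ker_mul q hqs
  have e3 := card_ker_mul (q.comp σ) (hqs.comp hσ.1)
  rw [hq2] at e2
  have hA : 0 < Nat.card (alternatingGroup (Fin 6)) := Nat.card_pos
  have e4 : Nat.card (q.comp σ).ker = 2 * Nat.card σ.ker := by
    refine Nat.eq_of_mul_eq_mul_right hA ?_
    rw [e3, ← e1, ← e2]; ring
  rw [e4, show (6 : ℕ) = 2 * 3 from rfl] at h
  exact Nat.dvd_of_mul_dvd_mul_left two_pos h

theorem exists_surj_three {A : Type*} [CommGroup A] [Finite A] (h : Nat.card A ∣ 3) :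
    ∃ p : Multiplicative (ZMod 3) →* A, Function.Surjective p := by
  haveI := Fact.mk Nat.prime_three
  rcases (Nat.dvd_prime Nat.prime_three).mp h with e | e
  · exact ⟨1, fun a => ⟨1, haveI := (Nat.card_eq_one_iff_unique.mp e).1; Subsingleton.elim _ _⟩⟩
  · haveI : IsCyclic A := isCyclic_of_prime_card e
    exact ⟨(mulEquivOfCyclicCardEq (G := Multiplicative (ZMod 3)) (by simp [e])).toMonoidHom,
      MulEquiv.surjective _⟩

theorem hasMultiplier_sl_two_nine (hF : Fintype.card F = 9) :
    Cfsg.HasCyclicSchurMultiplier (Matrix.SpecialLinearGroup (Fin 2) F) 3 := by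
  classical
  obtain ⟨hG, q, hqs, hqc, hq2⟩ := exists_map_six hF
  refine ⟨?_, fun Γ _ _ σ hσ => ?_⟩
  · obtain ⟨C, _, _, σ6, hσ6, ⟨e6⟩⟩ := exists_six_cover 4 (Or.inl rfl)
    have hA : commutator (alternatingGroup (Fin 6)) = ⊤ := by
      rw [eq_top_iff, ← MonoidHom.range_eq_top.mpr hqs, MonoidHom.range_eq_map, ← hG, _root_.commutator_def,
        Subgroup.map_commutator, _root_.commutator_def]
      exact Subgroup.commutator_mono le_top le_top
    have hC := stem_perfect σ6 hσ6 hA
    let P : Subgroup (Matrix.SpecialLinearGroup (Fin 2) F × C) :=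
      (q.comp (MonoidHom.fst _ _)).eqLocus (σ6.comp (MonoidHom.snd _ _))
    let p1 : P →* Matrix.SpecialLinearGroup (Fin 2) F := (MonoidHom.fst _ _).comp P.subtype
    let p2 : P →* C := (MonoidHom.snd _ _).comp P.subtype
    have hp1 : Function.Surjective p1 := fun g => by
      obtain ⟨c, hc⟩ := hσ6.1 (q g)
      exact ⟨⟨(g, c), hc.symm⟩, rfl⟩
    have hp2 : Function.Surjective p2 := fun c => by
      obtain ⟨g, hg⟩ := hqs (σ6 c)
      exact ⟨⟨(g, c), hg⟩, rfl⟩
    set D := commutator P with hD
    have hs1 : D.map p1 = ⊤ := by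
      rw [hD, _root_.commutator_def, Subgroup.map_commutator, Subgroup.map_top_of_surjective _ hp1,
        ← _root_.commutator_def, hG]
    have hs2 : D.map p2 = ⊤ := by
      rw [hD, _root_.commutator_def, Subgroup.map_commutator, Subgroup.map_top_of_surjective _ hp2,
        ← _root_.commutator_def, hC]
    let σ : D →* Matrix.SpecialLinearGroup (Fin 2) F := p1.comp D.subtype
    let τ : D →* C := p2.comp D.subtype
    have hσs : Function.Surjective σ := fun g => by
      obtain ⟨d, hd, e⟩ := hs1.ge (Subgroup.mem_top g)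
      exact ⟨⟨d, hd⟩, e⟩
    have hτs : Function.Surjective τ := fun g => by
      obtain ⟨d, hd, e⟩ := hs2.ge (Subgroup.mem_top g)
      exact ⟨⟨d, hd⟩, e⟩
    have hzc : ∀ z ∈ p1.ker, z ∈ Subgroup.center P := fun z hz => by
      have hz1 : (z : Matrix.SpecialLinearGroup (Fin 2) F × C).1 = 1 := hz
      have hz2 : (z : Matrix.SpecialLinearGroup (Fin 2) F × C).2 ∈ σ6.ker := by
        rw [MonoidHom.mem_ker]
        exact (show q _ = σ6 _ from z.2).symm.trans ((congrArg q hz1).trans (map_one q))
      rw [Subgroup.mem_center_iff]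
      intro y
      refine Subtype.ext (Prod.ext ?_ (Subgroup.mem_center_iff.mp (hσ6.2.1 hz2) _))
      simp [hz1]
    have hperf : commutator D = ⊤ := by
      have hle : D ≤ (commutator D).map D.subtype := by
        refine hD.le.trans ?_
        rw [_root_.commutator_def P, Subgroup.commutator_le]
        intro g _ g' _
        obtain ⟨d, hd⟩ := hσs (p1 g)
        obtain ⟨d', hd'⟩ := hσs (p1 g')
        have hk : (d : P)⁻¹ * g ∈ p1.ker := by
          rw [MonoidHom.mem_ker, map_mul, map_inv]
          exact inv_mul_eq_one.mpr hd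
        have hk' : (d' : P)⁻¹ * g' ∈ p1.ker := by
          rw [MonoidHom.mem_ker, map_mul, map_inv]
          exact inv_mul_eq_one.mpr hd'
        have e : ⁅g, g'⁆ = ⁅(d : P), (d' : P)⁆ := by
          have c := Subgroup.mem_center_iff.mp (hzc _ hk)
          have c' := Subgroup.mem_center_iff.mp (hzc _ hk')
          generalize hw : (d : P)⁻¹ * g = w at c
          generalize hw' : (d' : P)⁻¹ * g' = w' at c'
          rw [show g = d * w by rw [← hw, mul_inv_cancel_left], show g' = d' * w' by rw [← hw', mul_inv_cancel_left],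
            commutatorElement_def, commutatorElement_def]
          calc (d : P) * w * (d' * w') * (d * w)⁻¹ * (d' * w')⁻¹
              = (d : P) * (w * d') * w' * w⁻¹ * (d : P)⁻¹ * w'⁻¹ * (d' : P)⁻¹ := by group
            _ = (d : P) * d' * (w * w') * w⁻¹ * (d : P)⁻¹ * w'⁻¹ * (d' : P)⁻¹ := by rw [← c d']; group
            _ = (d : P) * d' * (w' * (d : P)⁻¹) * w'⁻¹ * (d' : P)⁻¹ := by rw [c' w]; group
            _ = _ := by rw [← c' (d : P)⁻¹]; group
        rw [e]
        exact ⟨⁅d, d'⁆, Subgroup.commutator_mem_commutator (Subgroup.mem_top _) (Subgroup.mem_top _),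
          map_commutatorElement _ _ _⟩
      rw [eq_top_iff]
      intro x _
      obtain ⟨y, hy, e⟩ := hle x.2
      exact (Subtype.ext e : y = x) ▸ hy
    have hstem : Cfsg.IsStemExtension σ := ⟨hσs, fun z hz => by
      rw [Subgroup.mem_center_iff]
      exact fun y => Subtype.ext (Subgroup.mem_center_iff.mp (hzc _ hz) y), hperf ▸ le_top⟩
    have h3 := card_ker_dvd_three hF σ hstem
    have e1 := card_ker_mul σ hσs
    have e2 := card_ker_mul q hqs
    have e5 := card_ker_mul σ6 hσ6.1
    have e6' : Nat.card σ6.ker = 6 := (Nat.card_congr e6.toEquiv).trans (by simp)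
    have hle := Nat.card_le_card_of_surjective τ hτs
    rw [hq2] at e2
    rw [e6'] at e5
    rw [← e5, ← e1, ← e2, ← mul_assoc] at hle
    have h3' : Nat.card σ.ker = 3 := by
      have := Nat.le_of_mul_le_mul_right hle Nat.card_pos
      rcases (Nat.dvd_prime Nat.prime_three).mp h3 with e | e <;> omega
    haveI := Fact.mk Nat.prime_three
    haveI : IsCyclic σ.ker := isCyclic_of_prime_card h3'
    exact ⟨D, inferInstance, inferInstance, σ, hstem, ⟨mulEquivOfCyclicCardEq (by rw [h3']; simp)⟩⟩
  · letI : CommGroup σ.ker := { (inferInstance : Group σ.ker) with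
      mul_comm := fun a b => Subtype.ext (Subgroup.mem_center_iff.mp (hσ.2.1 b.2) a) }
    exact exists_surj_three (card_ker_dvd_three hF σ hσ)

end SL

end Cfsg.Agent.AltCover
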