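import Cfsg.Agent.Lib.AltCover.Bound
import Cfsg.Agent.Lib.AltCover.Exists
import Cfsg.Prelude.Def_KGroupFacts

/-! The sixfold covers of the alternating groups of degrees six and seven. -/

set_option autoImplicit false

namespace Cfsg.Agent.AltCover

open Equiv Cfsg.Agent.S0447
open scoped commutatorElement

universe u

abbrev M6 := Matrix (Fin 6) (Fin 6) (ZMod 5)

/-- lift of a three-cycle -/
def six0 : M6 := !![0,0,0,0,1,0; 0,0,0,0,0,1; 1,0,0,0,0,0; 0,1,0,0,0,0; 0,0,1,0,0,0; 0,0,0,1,0,0]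

/-- lift of a three-cycle -/
def six1 : M6 := !![0,0,1,0,0,0; 0,0,0,1,0,0; 0,0,0,0,4,0; 0,0,0,0,0,4; 4,0,0,0,0,0; 0,4,0,0,0,0]

/-- lift of a three-cycle -/
def six2 : M6 := !![4,0,2,0,4,0; 0,4,0,2,0,4; 2,0,4,0,1,0; 0,2,0,4,0,1; 1,0,4,0,2,0; 0,1,0,4,0,2]

/-- lift of a three-cycle -/
def six3 : M6 := !![4,0,4,3,3,4; 0,4,4,4,2,3; 4,2,4,0,2,4; 1,4,0,4,2,2; 2,4,3,4,2,0; 2,2,2,3,0,2]

/-- lift of a three-cycle -/
def six4 : M6 := !![4,0,4,2,3,1; 0,4,1,4,3,3; 4,3,4,0,2,1; 4,4,0,4,3,2; 2,1,3,1,2,0; 3,2,3,3,0,2]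

/-- the central element of order three -/
def omegaM : M6 := !![2,1,0,0,0,0; 3,2,0,0,0,0; 0,0,2,1,0,0; 0,0,3,2,0,0; 0,0,0,0,2,1; 0,0,0,0,3,2]

/-- the lifts -/
def sixM : Fin 5 → M6 := ![six0, six1, six2, six3, six4]

/-- the exponents of the relations -/
def sixE : Fin 5 → Fin 5 → ℕ :=
  ![![0, 0, 0, 1, 2], ![0, 0, 0, 2, 1], ![0, 0, 0, 0, 0], ![1, 2, 0, 0, 0], ![2, 1, 0, 0, 0]]

theorem omega_cube : omegaM * (omegaM * omegaM) = 1 := by decide +kernel
theorem omega_ne : omegaM ≠ 1 := by decide +kernel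
theorem sixM_cube : ∀ i, sixM i * (sixM i * sixM i) = 1 := by decide +kernel
theorem sixM_rel : ∀ i j, i ≠ j →
    sixM i * sixM j * (sixM i * sixM j) = omegaM ^ ((4 * sixE i j + 3) % 6) := by decide +kernel
theorem omega_comm : ∀ i, sixM i * omegaM = omegaM * sixM i := by decide +kernel

/-- the central unit of order three -/
def omegaU : M6ˣ := ⟨omegaM, omegaM * omegaM, omega_cube, by rw [mul_assoc]; exact omega_cube⟩

/-- the lifts as units -/
def sixU (i : Fin 5) : M6ˣ :=
  ⟨sixM i, sixM i * sixM i, sixM_cube i, by rw [mul_assoc]; exact sixM_cube i⟩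


/-- The ambient group of the sixfold cover. -/
abbrev K6 (m : ℕ) := alternatingGroup (Fin (m + 2)) × M6ˣ × (Matrix (V m) (V m) (ZMod 3))ˣ

/-- The central element of order six. -/
def w6 (m : ℕ) : K6 m := (1, omegaU, -1)

theorem omegaU_cube : omegaU ^ 3 = 1 := Units.ext (by
  rw [Units.val_pow_eq_pow_val, pow_succ', pow_two]; exact omega_cube)

theorem w6_pow (m : ℕ) : w6 m ^ 6 = 1 := by
  have h : omegaU ^ (3 * 2) = 1 := by rw [pow_mul, omegaU_cube, one_pow]
  exact Prod.ext (one_pow 6) (Prod.ext h ((by decide : Even 6).neg_one_pow))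

theorem sixU_cube (i : Fin 5) : sixU i ^ 3 = 1 := Units.ext (by
  rw [Units.val_pow_eq_pow_val, pow_succ', pow_two]; exact sixM_cube i)

theorem sixU_rel (i j : Fin 5) (h : i ≠ j) :
    (sixU i * sixU j) ^ 2 = omegaU ^ ((4 * sixE i j + 3) % 6) := Units.ext (by
  rw [Units.val_pow_eq_pow_val, Units.val_pow_eq_pow_val, Units.val_mul, pow_two]
  exact sixM_rel i j h)

theorem lift_cube {m : ℕ} (i : Fin m) : lift i ^ 3 = 1 := Units.ext (by
  rw [Units.val_pow_eq_pow_val, pow_succ', pow_two]; exact cube_one i)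

theorem lift_rel {m : ℕ} {i j : Fin m} (h : i ≠ j) {k : ℕ} (hk : Odd k) :
    (lift i * lift j) ^ 2 = (-1 : (Matrix (V m) (V m) (ZMod 3))ˣ) ^ k := Units.ext (by
  rw [hk.neg_one_pow, Units.val_pow_eq_pow_val, Units.val_mul, pow_two, Units.val_neg, Units.val_one]
  exact pair_sq h)

/-- A stem extension with cyclic kernel of order six in degrees six and seven. -/
theorem exists_six_cover (m : ℕ) (hm : m = 4 ∨ m = 5) :
    ∃ (Γ : Type) (_ : Group Γ) (_ : Finite Γ) (σ : Γ →* alternatingGroup (Fin (m + 2))),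
      Cfsg.IsStemExtension σ ∧ Nonempty (σ.ker ≃* Multiplicative (ZMod 6)) := by
  classical
  have hm5 : m ≤ 5 := by omega
  let gen : Fin m → K6 m := fun i =>
    (⟨cyc m i, ((cyc_props m).1 i i.2).2⟩, sixU (Fin.castLE hm5 i), lift i)
  let wK : K6 m := w6 m
  set D := Subgroup.closure (Set.range gen) with hD
  have hw6 : wK ^ 6 = 1 := w6_pow m
  have hcube : ∀ i, gen i ^ 3 = 1 := fun i =>
    Prod.ext (Subtype.ext ((cyc_props m).1 i i.2).1) (Prod.ext (sixU_cube _) (lift_cube i))
  have hrel : ∀ i j : Fin m, i ≠ j → (gen i * gen j) ^ 2 =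
      wK ^ ((4 * sixE (Fin.castLE hm5 i) (Fin.castLE hm5 j) + 3) % 6) := fun i j hij => by
    have hodd : Odd ((4 * sixE (Fin.castLE hm5 i) (Fin.castLE hm5 j) + 3) % 6) := by
      rw [Nat.odd_iff]; omega
    refine Prod.ext (Subtype.ext ?_) (Prod.ext
      (sixU_rel _ _ fun e => hij (Fin.castLE_injective _ e)) (lift_rel hij hodd))
    exact (((cyc_props m).2 i i.2 j j.2 fun e => hij (Fin.ext e)).1).trans
      (congrArg Subtype.val (one_pow (M := alternatingGroup (Fin (m + 2)))
        ((4 * sixE (Fin.castLE hm5 i) (Fin.castLE hm5 j) + 3) % 6))).symm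
  have hgen : ∀ i, gen i ∈ D := fun i => Subgroup.subset_closure ⟨i, rfl⟩
  let i0 : Fin m := ⟨0, by omega⟩
  let i1 : Fin m := ⟨1, by omega⟩
  let i2 : Fin m := ⟨2, by omega⟩
  let i3 : Fin m := ⟨3, by omega⟩
  have e03 : (gen i0 * gen i3) ^ 2 = wK := by
    rw [hrel i0 i3 (by simp [i0, i3, Fin.ext_iff])]
    simp [sixE, Fin.castLE, i0, i3]
  have hwD : wK ∈ D := e03 ▸ D.pow_mem (D.mul_mem (hgen i0) (hgen i3)) 2
  let w : D := ⟨wK, hwD⟩
  have hwcomm : ∀ g : D, g * w = w * g := by
    intro g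
    have hle : D ≤ Subgroup.centralizer {wK} := by
      rw [hD, Subgroup.closure_le]
      rintro _ ⟨i, rfl⟩
      rw [SetLike.mem_coe, Subgroup.mem_centralizer_singleton_iff]
      refine Prod.ext ?_ (Prod.ext (Units.ext ?_) (Units.ext ?_))
      · show _ * 1 = 1 * _; simp
      · show sixM (Fin.castLE hm5 i) * omegaM = omegaM * sixM (Fin.castLE hm5 i)
        exact omega_comm _
      · show (lift i : (Matrix (V m) (V m) (ZMod 3))ˣ).val * (-1 : (Matrix (V m) (V m) (ZMod 3))ˣ).val =
          (-1 : (Matrix (V m) (V m) (ZMod 3))ˣ).val * (lift i : (Matrix (V m) (V m) (ZMod 3))ˣ).val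
        simp
    exact Subtype.ext (Subgroup.mem_centralizer_singleton_iff.mp (hle g.2))
  have hwc : Subgroup.zpowers w ≤ Subgroup.center D :=
    Subgroup.zpowers_le.mpr (Subgroup.mem_center_iff.mpr hwcomm)
  have hword : orderOf w = 6 := by
    rw [← Subgroup.orderOf_coe]
    refine orderOf_eq_of_pow_and_pow_div_prime (by norm_num) hw6 ?_
    intro p hp hd
    have h6 : p = 2 ∨ p = 3 := by
      have := Nat.le_of_dvd (by norm_num) hd
      interval_cases p <;> first | omega | (norm_num at hp)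
    intro h
    rcases h6 with rfl | rfl
    · have h' := congrArg (fun k : K6 m => ((k.2.2 : (Matrix (V m) (V m) (ZMod 3))ˣ) :
        Matrix (V m) (V m) (ZMod 3)) (fun _ => true) (fun _ => true)) h
      simp [wK, w, w6, pow_succ] at h'
      exact absurd h' (by decide +revert)
    · have h' := congrArg (fun k : K6 m => ((k.2.1 : M6ˣ) : M6)) h
      simp [wK, w, w6, omegaU] at h'
      have e : omegaM = omegaM * (omegaM * omegaM) := by
        rw [← pow_two, h', mul_one]
      exact omega_ne (e.trans omega_cube)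
  let Y : ℕ → D := fun i => if h : i < m then ⟨gen ⟨i, h⟩, hgen _⟩ else 1
  have hY : ∀ i : Fin m, Y i = ⟨gen i, hgen i⟩ := fun i => by simp [Y]
  have hclos : Subgroup.closure (Y '' {i | i < m}) = ⊤ := by
    rw [eq_top_iff, ← Subgroup.closure_preimage_eq_top (Set.range gen)]
    refine (Subgroup.closure_le _).mpr ?_
    rintro ⟨d, hd⟩ ⟨i, rfl⟩
    exact Subgroup.subset_closure ⟨i, i.2, hY i⟩
  have hwcom : w ∈ commutator D := by
    rw [← Abelianization.ker_of, MonoidHom.mem_ker]
    let a : Fin m → Abelianization D := fun i => Abelianization.of (Y i)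
    set t : Abelianization D := Abelianization.of w
    have c3 : ∀ i, a i ^ 3 = 1 := fun i => by
      show (Abelianization.of (Y i)) ^ 3 = 1
      rw [← map_pow, hY, show (⟨gen i, hgen i⟩ : D) ^ 3 = 1 from Subtype.ext (hcube i), map_one]
    have pr : ∀ i j : Fin m, i ≠ j →
        (a i * a j) ^ 2 = t ^ ((4 * sixE (Fin.castLE hm5 i) (Fin.castLE hm5 j) + 3) % 6) := fun i j hij => by
      show (Abelianization.of (Y i) * Abelianization.of (Y j)) ^ 2 = _
      rw [← map_mul, ← map_pow, ← map_pow]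
      congr 1
      refine Subtype.ext ?_
      rw [SubmonoidClass.coe_pow, SubmonoidClass.coe_pow, Subgroup.coe_mul, hY, hY]
      exact hrel i j hij
    have p01 := pr i0 i1 (by simp [i0, i1, Fin.ext_iff])
    have p02 := pr i0 i2 (by simp [i0, i2, Fin.ext_iff])
    have p12 := pr i1 i2 (by simp [i1, i2, Fin.ext_iff])
    have p03 := pr i0 i3 (by simp [i0, i3, Fin.ext_iff])
    have p23 := pr i2 i3 (by simp [i2, i3, Fin.ext_iff])
    simp [i0, i1, i2, i3, sixE, Fin.castLE] at p01 p02 p12 p03 p23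
    change (a i0 * a i1) ^ 2 = t ^ 3 at p01
    change (a i0 * a i2) ^ 2 = t ^ 3 at p02
    change (a i1 * a i2) ^ 2 = t ^ 3 at p12
    change (a i0 * a i3) ^ 2 = t at p03
    change (a i2 * a i3) ^ 2 = t ^ 3 at p23
    have t3 : t ^ 3 = 1 := by
      calc t ^ 3 = ((a i0 * a i3) ^ 2) ^ 3 := by rw [p03]
        _ = (a i0 ^ 3 * a i3 ^ 3) ^ 2 := by rw [← mul_pow, ← pow_mul, ← pow_mul, mul_comm 2 3]
        _ = 1 := by rw [c3, c3]; simp
    rw [t3] at p01 p02 p12 p23
    have half : ∀ i j : Fin m, (a i * a j) ^ 2 = 1 → a i * a j = 1 := fun i j h => by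
      have h' : (a i * a j) ^ 3 = 1 := by rw [mul_pow, c3, c3, one_mul]
      rwa [pow_succ, h, one_mul] at h'
    have h01 := half _ _ p01
    have h02 := half _ _ p02
    have h12 := half _ _ p12
    have e2 : a i2 = a i1 := mul_left_cancel (h02.trans h01.symm)
    have h11 : a i1 = 1 := by
      rw [e2, ← pow_two] at h12
      have h' := c3 i1
      rwa [pow_succ, h12, one_mul] at h'
    have h00 : a i0 = 1 := by rwa [h11, mul_one] at h01
    have h33 : a i3 = 1 := by
      have h' := half _ _ p23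
      rwa [e2, h11, one_mul] at h'
    rw [← p03, h00, h33]; simp
  haveI hn : (Subgroup.zpowers w).Normal := ⟨fun a ha g => by
    rw [Subgroup.mem_center_iff.mp (hwc ha) g, mul_inv_cancel_right]
    exact ha⟩
  let π : D →* alternatingGroup (Fin (m + 2)) := (MonoidHom.fst _ _).comp D.subtype
  let πb : D ⧸ Subgroup.zpowers w →* alternatingGroup (Fin (m + 2)) :=
    QuotientGroup.lift _ π (Subgroup.zpowers_le.mpr rfl)
  have hsur : Function.Surjective π := by
    intro a
    have hle : alternatingGroup (Fin (m + 2)) ≤ π.range.map (alternatingGroup (Fin (m + 2))).subtype := by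
      refine (cyc_gen m).trans ?_
      rw [Subgroup.closure_le]
      rintro _ ⟨i, hi, rfl⟩
      exact ⟨(gen ⟨i, hi⟩).1, ⟨⟨gen ⟨i, hi⟩, hgen _⟩, rfl⟩, rfl⟩
    obtain ⟨a', ⟨d, hd⟩, ha'⟩ := hle a.2
    exact ⟨d, hd.trans (Subtype.ext ha')⟩
  have hsurb : Function.Surjective πb := fun a => (hsur a).elim fun d hd => ⟨QuotientGroup.mk d, hd⟩
  have hcard := pres_card (fun i => QuotientGroup.mk' (Subgroup.zpowers w) (Y i)) m
    (fun i hi => by
      simp only [← map_pow]
      rw [hY ⟨i, hi⟩, show (⟨gen ⟨i, hi⟩, hgen _⟩ : D) ^ 3 = 1 from Subtype.ext (hcube _), map_one])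
    (fun i hi j hj hij => by
      simp only [← map_mul, ← map_pow]
      refine (QuotientGroup.eq_one_iff _).mpr ?_
      refine ⟨((4 * sixE (Fin.castLE hm5 ⟨i, hi⟩) (Fin.castLE hm5 ⟨j, hj⟩) + 3) % 6 : ℕ), ?_⟩
      rw [hY ⟨i, hi⟩, hY ⟨j, hj⟩]
      refine Subtype.ext ?_
      show ((w ^ ((_ : ℕ) : ℤ) : D) : K6 m) = _
      rw [zpow_natCast, SubmonoidClass.coe_pow]
      exact (hrel ⟨i, hi⟩ ⟨j, hj⟩ fun e => hij (congrArg Fin.val e)).symm)
  rw [show (fun i => QuotientGroup.mk' (Subgroup.zpowers w) (Y i)) =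
      (QuotientGroup.mk' (Subgroup.zpowers w)) ∘ Y from rfl, Set.image_comp, ← MonoidHom.map_closure, hclos,
    Subgroup.map_top_of_surjective _ (QuotientGroup.mk'_surjective _), Subgroup.card_top, ← card_alt m] at hcard
  have hbij : Function.Bijective πb := (Nat.bijective_iff_surjective_and_card _).2 ⟨hsurb,
    le_antisymm (Nat.le_of_mul_le_mul_left hcard two_pos) (Nat.card_le_card_of_surjective _ hsurb)⟩
  have hker : π.ker = Subgroup.zpowers w := by
    refine le_antisymm (fun d hd => ?_) (Subgroup.zpowers_le.mpr rfl)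
    rw [← QuotientGroup.eq_one_iff]
    exact hbij.1 ((show πb (QuotientGroup.mk d) = 1 from hd).trans (map_one πb).symm)
  haveI : IsCyclic π.ker := by rw [hker]; infer_instance
  refine ⟨D, inferInstance, inferInstance, π, ⟨hsur, hker ▸ hwc, ?_⟩, ⟨mulEquivOfCyclicCardEq ?_⟩⟩
  · rw [hker, Subgroup.zpowers_le]; exact hwcom
  · rw [hker, Nat.card_zpowers, hword]
    simp

/-- A finite cyclic group whose order divides six is an image of the cyclic group of order six. -/
theorem exists_surj_six {A : Type*} [CommGroup A] [Finite A] (h : Nat.card A ∣ 6) :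
    ∃ p : Multiplicative (ZMod 6) →* A, Function.Surjective p := by
  have hd : Nat.card A = 1 ∨ Nat.card A = 2 ∨ Nat.card A = 3 ∨ Nat.card A = 6 := by
    have := Nat.le_of_dvd (by norm_num) h
    have := Nat.card_pos (α := A)
    interval_cases Nat.card A <;> simp_all (config := { decide := true })
  obtain ⟨g, hg⟩ : ∃ g : A, orderOf g = Nat.card A := by
    rcases hd with e | e | e | e
    · exact ⟨1, by rw [orderOf_one, e]⟩
    · haveI := Fact.mk Nat.prime_two
      exact (exists_prime_orderOf_dvd_card' (G := A) 2 (by rw [e])).imp fun g hg => hg.trans e.symm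
    · haveI := Fact.mk Nat.prime_three
      exact (exists_prime_orderOf_dvd_card' (G := A) 3 (by rw [e])).imp fun g hg => hg.trans e.symm
    · haveI := Fact.mk Nat.prime_two
      haveI := Fact.mk Nat.prime_three
      obtain ⟨a, ha⟩ := exists_prime_orderOf_dvd_card' (G := A) 2 (by rw [e]; norm_num)
      obtain ⟨b, hb⟩ := exists_prime_orderOf_dvd_card' (G := A) 3 (by rw [e]; norm_num)
      exact ⟨a * b, by rw [(Commute.all a b).orderOf_mul_eq_mul_orderOf_of_coprime (by rw [ha, hb]; norm_num),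
        ha, hb, e]⟩
  have hcyc : IsCyclic A := isCyclic_of_orderOf_eq_card g hg
  let e : Multiplicative (ZMod (Nat.card A)) ≃* A := zmodCyclicMulEquiv hcyc
  refine ⟨e.toMonoidHom.comp (AddMonoidHom.toMultiplicative (ZMod.castHom h (ZMod (Nat.card A))).toAddMonoidHom),
    e.surjective.comp ?_⟩
  intro y
  obtain ⟨x, hx⟩ := ZMod.castHom_surjective h (Multiplicative.toAdd y)
  exact ⟨Multiplicative.ofAdd x, congrArg Multiplicative.ofAdd hx⟩

/-- The kernel of a stem extension in degrees six and seven has order dividing six. -/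
theorem card_ker_dvd_six {m : ℕ} (hm : m = 4 ∨ m = 5) {Γ : Type u} [Group Γ] [Finite Γ]
    (π : Γ →* alternatingGroup (Fin (m + 2)))
    (hπ : Function.Surjective π) (hc : π.ker ≤ Subgroup.center Γ) (hd : π.ker ≤ commutator Γ) :
    Nat.card π.ker ∣ 6 := by
  classical
  obtain ⟨φ, hφ, hφ'⟩ := exists_stab_map (by omega) π hπ hc
  let S : Subgroup (alternatingGroup (Fin (m + 2))) :=
    { carrier := {g | ∀ i : Fin (m + 2), (i : ℕ) < 3 → (g : Perm _) i = i}
      one_mem' := fun i _ => by simp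
      mul_mem' := fun {a b} ha hb i hi => by rw [Subgroup.coe_mul, Perm.mul_apply, hb i hi, ha i hi]
      inv_mem' := fun {a} ha i hi => by
        rw [Subgroup.coe_inv, Perm.inv_eq_iff_eq]; exact (ha i hi).symm }
  let χ : S →* π.ker := MonoidHom.mk' (fun g => φ g) fun g h => hφ g h g.2 h.2
  obtain ⟨X, hX⟩ := hπ ⟨tc ⟨2, by omega⟩, Perm.mem_alternatingGroup.mpr (by
    rw [tc, map_mul, Perm.sign_swap (by simp [Fin.ext_iff]), Perm.sign_swap (by simp [Fin.ext_iff])]; simp)⟩
  have hχ3 : ∀ s : S, χ s ^ 3 = 1 := fun s => by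
    obtain ⟨g, hg⟩ := hπ s.1
    have h := (hφ' g X (congrArg Subtype.val hX) (fun i hi => by rw [hg]; exact s.2 i hi)).2
    rw [hg] at h
    exact h
  have hχp : IsPGroup 3 χ.range := by
    rintro ⟨_, s, rfl⟩
    exact ⟨1, Subtype.ext (by rw [SubmonoidClass.coe_pow]; exact hχ3 s)⟩
  haveI := Fact.mk Nat.prime_three
  have hS : Nat.card S ∣ 24 := by
    let p : Fin (m + 2) → Prop := fun i => 3 ≤ (i : ℕ)
    have hp : ∀ (g : S) (i : Fin (m + 2)), p (((g : alternatingGroup (Fin (m + 2))) : Perm _) i) ↔ p i := by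
      intro g i
      constructor
      · intro h
        by_contra hc
        rw [g.2 i (by simp [p] at hc; omega)] at h
        exact hc h
      · intro h
        by_contra hc
        have := g.2 _ (by simp [p] at hc; omega)
        exact hc ((((g : alternatingGroup (Fin (m + 2))) : Perm (Fin (m + 2))).injective this).symm ▸ h)
    let ψ : S →* Perm (Subtype p) := MonoidHom.mk'
      (fun g => ((g : alternatingGroup (Fin (m + 2))) : Perm _).subtypePerm (hp g))
      fun a b => Perm.ext fun i => Subtype.ext rfl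
    have hinj : Function.Injective ψ := fun a b h => by
      refine Subtype.ext (Subtype.ext (Perm.ext fun i => ?_))
      by_cases hi : p i
      · exact congrArg (fun σ : Perm (Subtype p) => ((σ ⟨i, hi⟩ : Subtype p) : Fin (m + 2))) h
      · rw [a.2 i (by simp [p] at hi; omega), b.2 i (by simp [p] at hi; omega)]
    refine (Subgroup.card_dvd_of_injective ψ hinj).trans ?_
    rw [Nat.card_perm, Nat.card_eq_fintype_card]
    rcases hm with rfl | rfl <;> decide
  have hC3 : Nat.card χ.range ∣ 3 := by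
    obtain ⟨k, hk⟩ := IsPGroup.iff_card.mp hχp
    have h := (Subgroup.card_range_dvd χ).trans hS
    rw [hk] at h ⊢
    rcases k with _ | _ | k
    · norm_num
    · norm_num
    · have h9 : 3 ^ 2 ∣ 24 := (pow_dvd_pow 3 (by omega)).trans h
      norm_num at h9
  set C := χ.range.map π.ker.subtype with hC
  have hCk : C ≤ π.ker := Subgroup.map_subtype_le _
  haveI : C.Normal := ⟨fun a ha g => by
    rw [Subgroup.mem_center_iff.mp (hc (hCk ha)) g, mul_inv_cancel_right]; exact ha⟩
  set π' := QuotientGroup.lift C π hCk with hπ'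
  have hkerm : π'.ker = π.ker.map (QuotientGroup.mk' C) := QuotientGroup.ker_lift C π hCk
  have h2 : Nat.card π'.ker ≤ 2 := by
    refine card_ker_le_two_of_stab (by omega) π' (fun a => (hπ a).elim fun g hg => ⟨g, hg⟩) ?_ ?_ ?_
    · rw [hkerm]
      rintro _ ⟨z, hz, rfl⟩
      rw [Subgroup.mem_center_iff]
      intro y
      obtain ⟨y, rfl⟩ := QuotientGroup.mk'_surjective C y
      rw [← map_mul, ← map_mul, Subgroup.mem_center_iff.mp (hc hz) y]
    · rw [hkerm]
      refine (Subgroup.map_mono hd).trans ?_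
      rw [_root_.commutator_def, Subgroup.map_commutator, _root_.commutator_def]
      exact Subgroup.commutator_mono le_top le_top
    · intro g x hx hg
      obtain ⟨g, rfl⟩ := QuotientGroup.mk_surjective g
      obtain ⟨x, rfl⟩ := QuotientGroup.mk_surjective x
      have h := (hφ' g x hx hg).1
      have h0 : (QuotientGroup.mk ((φ (π g) : π.ker) : Γ) : Γ ⧸ C) = 1 :=
        (QuotientGroup.eq_one_iff _).mpr ⟨φ (π g), ⟨⟨π g, hg⟩, rfl⟩, rfl⟩
      rw [← QuotientGroup.mk_inv, ← QuotientGroup.mk_mul, ← QuotientGroup.mk_mul, h, QuotientGroup.mk_mul,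
        h0, one_mul]
  have hcardk : Nat.card π.ker = Nat.card π'.ker * Nat.card C := by
    rw [hkerm]
    let f := (QuotientGroup.mk' C).subgroupMap π.ker
    have h := f.ker.card_mul_index
    rw [Subgroup.index_ker, MonoidHom.range_eq_top.mpr ((QuotientGroup.mk' C).subgroupMap_surjective π.ker),
      Subgroup.card_top] at h
    rw [← h, mul_comm]
    congr 1
    rw [show f.ker = C.subgroupOf π.ker from by
      ext a
      rw [MonoidHom.mem_ker, Subgroup.mem_subgroupOf, ← QuotientGroup.eq_one_iff]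
      exact ⟨fun e => congrArg Subtype.val e, fun e => Subtype.ext e⟩]
    exact Nat.card_congr (Subgroup.subgroupOfEquivOfLe hCk).toEquiv
  rw [hcardk, show Nat.card C = Nat.card χ.range from
    Subgroup.card_map_of_injective π.ker.subtype_injective, show (6 : ℕ) = 2 * 3 from rfl]
  refine Nat.mul_dvd_mul ?_ hC3
  have := Nat.card_pos (α := π'.ker)
  interval_cases Nat.card π'.ker <;> norm_num

theorem hasMultiplier_six (n : ℕ) (hn : n = 6 ∨ n = 7) :
    Cfsg.HasCyclicSchurMultiplier (alternatingGroup (Fin n)) 6 := by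
  obtain ⟨m, rfl⟩ : ∃ m, n = m + 2 := ⟨n - 2, by omega⟩
  refine ⟨exists_six_cover m (by omega), fun Γ _ _ σ hσ => ?_⟩
  letI : CommGroup σ.ker := { (inferInstance : Group σ.ker) with
    mul_comm := fun a b => Subtype.ext (Subgroup.mem_center_iff.mp (hσ.2.1 b.2) a) }
  exact exists_surj_six (card_ker_dvd_six (by omega) σ hσ.1 hσ.2.1 hσ.2.2)

end Cfsg.Agent.AltCover
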